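import Groth.Agent.H64.LocQ.SubLocQ

set_option autoImplicit false
universe u
open CategoryTheory CategoryTheory.Limits AlgebraicGeometry Opposite

/-! The composite of two chart squares with smooth lifts has a smooth lift. -/

namespace Groth.Agent.H64.LocQ

open AlgSt Groth.Agent.H32 Groth.Agent.H64 Groth.Agent.H64.Recog Groth.Agent.H64.FpRep
  Groth.Agent.H64.PTh Groth.Agent.H64.Pts

variable {S : Scheme.{u}} {𝒳 𝒴 𝒵 : AlgSt.Cat S}

section comp

variable (f : 𝒳 ⥤ᵇ 𝒴) (g : 𝒴 ⥤ᵇ 𝒵) {U V W : Over S}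
  (x : FibCat.overCat U ⥤ᵇ 𝒳) (y : FibCat.overCat V ⥤ᵇ 𝒴) (z : FibCat.overCat W ⥤ᵇ 𝒵)
  (hf : U ⟶ V) (hg : V ⟶ W)
  (αf : BasedFunctor.comp x f ≅ BasedFunctor.comp (AlgSt.overMap hf) y)
  (αg : BasedFunctor.comp y g ≅ BasedFunctor.comp (AlgSt.overMap hg) z)

/-- the 2-isomorphism of the composite of two chart squares -/
noncomputable def compIso :
    BasedFunctor.comp x (BasedFunctor.comp f g) ≅
      BasedFunctor.comp (AlgSt.overMap (hf ≫ hg)) z :=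
  bwrIso αf g ≪≫ bwlIso (AlgSt.overMap hf) αg ≪≫ bwrIso (ovMapCompIso hf hg) z

theorem bapp_compIso_hom (t : (FibCat.overCat U).obj) :
    bapp (compIso f g x y z hf hg αf αg).hom t =
      g.map (bapp αf.hom t) ≫ bapp αg.hom ((AlgSt.overMap hf).obj t) ≫
        z.map (bapp (ovMapCompIso hf hg).hom t) := rfl

theorem comp_aux {D : Type*} [Category D] {A B C E : D} (a : A ⟶ B) (b : B ⟶ C) (c : C ⟶ E)
    (d : E ⟶ C) (h : c ≫ d = 𝟙 C) : a ≫ b = (a ≫ b ≫ c) ≫ d := by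
  simp [h]

/-- the composite of two chart squares with smooth lifts has a smooth lift -/
theorem sm_lift_comp (h𝒳 : FibCat.IsFibGrpd 𝒳.p) (h𝒴 : FibCat.IsFibGrpd 𝒴.p)
    (h𝒵 : FibCat.IsFibGrpd 𝒵.p)
    (hℓf : Sm (FibCat.fpLift x (AlgSt.overMap hf) αf))
    (hℓg : Sm (FibCat.fpLift y (AlgSt.overMap hg) αg)) :
    Sm (FibCat.fpLift x (AlgSt.overMap (hf ≫ hg)) (compIso f g x y z hf hg αf αg)) := by
  have hU := isFibGrpd_overCat U
  have hV := isFibGrpd_overCat V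
  have hW := isFibGrpd_overCat W
  let ℓf := FibCat.fpLift x (AlgSt.overMap hf) αf
  let ℓg := FibCat.fpLift y (AlgSt.overMap hg) αg
  let ℓ := FibCat.fpLift x (AlgSt.overMap (hf ≫ hg)) (compIso f g x y z hf hg αf αg)
  let π := FibCat.fpFst g z
  let E₁ : FibCat.fp (BasedFunctor.comp f g) z ⥤ᵇ FibCat.fp f π := fpPaste z g f
  let B : FibCat.fp f y ⥤ᵇ FibCat.fp f π := fpPaste₂Fst ℓg π f
  have hB : Sm B := rep_fpPaste₂Fst _ ℓg π f hℓg
  have hgz : FibCat.IsFibGrpd (FibCat.fp g z).p := isFibGrpd_fp _ _ h𝒴 hW h𝒵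
  have hfy : FibCat.IsFibGrpd (FibCat.fp f y).p := isFibGrpd_fp _ _ h𝒳 hV h𝒴
  have hfπ : FibCat.IsFibGrpd (FibCat.fp f π).p := isFibGrpd_fp _ _ h𝒳 hgz h𝒴
  have hfgz : FibCat.IsFibGrpd (FibCat.fp (BasedFunctor.comp f g) z).p :=
    isFibGrpd_fp _ _ h𝒳 hW h𝒵
  -- the 2-isomorphism between the two functors to `𝒴 ×_𝒵 W`
  let e₂ : BasedFunctor.comp (BasedFunctor.comp ℓ E₁) (FibCat.fpSnd f π) ≅
      BasedFunctor.comp (BasedFunctor.comp ℓf B) (FibCat.fpSnd f π) :=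
    fpFunctorIsoMk g z αf (ovMapCompIso hf hg).symm (fun t => by
      show g.map (bapp αf.hom t) ≫ bapp αg.hom ((AlgSt.overMap hf).obj t) =
        bapp (compIso f g x y z hf hg αf αg).hom t ≫ z.map (bapp (ovMapCompIso hf hg).inv t)
      rw [bapp_compIso_hom]
      exact comp_aux _ _ _ _ ((z.toFunctor.map_comp _ _).symm.trans
        ((congrArg z.toFunctor.map (bapp_iso_hom_inv _ t)).trans (z.toFunctor.map_id _))))
  have e : BasedFunctor.comp ℓ E₁ ≅ BasedFunctor.comp ℓf B :=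
    fpFunctorIsoMk f π (Iso.refl _) e₂ (fun t => by
      show f.map (𝟙 _) ≫ bapp αf.hom t = 𝟙 _ ≫ bapp αf.hom t
      rw [CategoryTheory.Functor.map_id]
      rfl)
  have h1 : Sm (BasedFunctor.comp ℓ E₁) :=
    repByAlgSpWith_of_iso e (sm_comp hU hfy ℓf B hℓf hB)
  have := fpPaste_full z g f
  have := fpPaste_faithful z g f
  exact sm_of_comp_ff hU hfgz hfπ ℓ E₁ h1

end comp

end Groth.Agent.H64.LocQ
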