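import Groth.Agent.H64.LocQ.Transfer

set_option autoImplicit false
universe u
open CategoryTheory CategoryTheory.Limits AlgebraicGeometry Opposite

/-! Independence of the chart square for properties smooth local on the source-and-target. -/

namespace Groth.Agent.H64.LocQ

open AlgSt Groth.Agent.H32 Groth.Agent.H64 Groth.Agent.H64.Recog Groth.Agent.H64.FpRep
  Groth.Agent.H64.PTh

variable {S : Scheme.{u}}

section pieces

variable {𝒜 ℬ 𝒵 𝒲 : AlgSt.Cat S}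

/-- precomposition with an equivalence -/
theorem rep_equiv_comp (Q : MorphismProperty (AlgSp.Sp S)) (E : 𝒜 ⥤ᵇ ℬ)
    (hE : FibCat.IsEquivOver E) (g : ℬ ⥤ᵇ 𝒵) (hg : RepByAlgSpWith Q g) :
    RepByAlgSpWith Q (BasedFunctor.comp E g) :=
  repByAlgSpWith_of_square Q g (BasedFunctor.comp E g) E (BasedFunctor.id _) hE
    (isEquivOver_id _) (Iso.refl _) hg

/-- `𝒲 ×_𝒵 𝒜 ⟶ 𝒲 ×_𝒵 ℬ` is a base change of `b : 𝒜 ⟶ ℬ` -/
theorem rep_fpPaste₂Fst (Q : MorphismProperty (AlgSp.Sp S)) (b : 𝒜 ⥤ᵇ ℬ) (g : ℬ ⥤ᵇ 𝒵)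
    (G : 𝒲 ⥤ᵇ 𝒵) (hb : RepByAlgSpWith Q b) : RepByAlgSpWith Q (fpPaste₂Fst b g G) := by
  have h1 : RepByAlgSpWith Q (FibCat.fpFst (FibCat.fpSnd G g) b) :=
    repByAlgSpWith_fpFst Q b (FibCat.fpSnd G g) hb
  exact rep_equiv_comp Q (fpPaste₂ b g G)
    (isEquivOver_fpPaste₂ b g G) _ h1

/-- `𝒲 ×_𝒴 𝒳 ⟶ 𝒵 ×_𝒴 𝒳` is a base change of `z : 𝒲 ⟶ 𝒵` -/
theorem rep_fpPasteSnd (Q : MorphismProperty (AlgSp.Sp S)) {𝒳 𝒴 : AlgSt.Cat S} (f : 𝒳 ⥤ᵇ 𝒴)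
    (g : 𝒵 ⥤ᵇ 𝒴) (z : 𝒲 ⥤ᵇ 𝒵) (hz : RepByAlgSpWith Q z) :
    RepByAlgSpWith Q (fpPasteSnd f g z) := by
  have h1 : RepByAlgSpWith Q (FibCat.fpSnd z (FibCat.fpFst g f)) :=
    repByAlgSpWith_fpSnd Q z (FibCat.fpFst g f) hz
  exact rep_equiv_comp Q (fpPaste f g z)
    (isEquivOver_fpPaste f g z) _ h1

end pieces

section stepA

variable {P : MorphismProperty (AlgSp.Sp S)} {𝒳 𝒴 : AlgSt.Cat S}

/-- Step A: from one chart square `(U, V, x, y, h, α)` of `f` with `x` smooth surjective, `y`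
smooth and `h` having `P`, and any smooth chart `y' : V' ⟶ 𝒴`, produce a smooth surjective chart
`ℓ₁ : U₁ ⟶ 𝒳 ×_𝒴 V'` whose composite `U₁ ⟶ V'` has `P`. -/
theorem exists_chart (hP : AlgSp.IsSmoothLocalST P) (_h𝒳 : FibCat.IsFibGrpd 𝒳.p)
    (h𝒴 : FibCat.IsFibGrpd 𝒴.p) (f : 𝒳 ⥤ᵇ 𝒴) {U V V' : Over S}
    (x : FibCat.overCat U ⥤ᵇ 𝒳) (y : FibCat.overCat V ⥤ᵇ 𝒴) (h : U ⟶ V)
    (α : BasedFunctor.comp x f ≅ BasedFunctor.comp (AlgSt.overMap h) y)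
    (hx : Sm x) (hxs : Sj x) (hy : Sm y) (hPh : P ((AlgSp.yon S).map h))
    (y' : FibCat.overCat V' ⥤ᵇ 𝒴) (hy' : Sm y') :
    ∃ (U₁ : Over S) (ℓ₁ : FibCat.overCat U₁ ⥤ᵇ FibCat.fp f y') (k₁ : U₁ ⟶ V'),
      Sm ℓ₁ ∧ Sj ℓ₁ ∧ Nonempty (BasedFunctor.comp ℓ₁ (FibCat.fpSnd f y') ≅ ovMap k₁) ∧
        P ((AlgSp.yon S).map k₁) := by
  have hU := isFibGrpd_overCat U
  have hV := isFibGrpd_overCat V
  have hV' := isFibGrpd_overCat V'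
  have hℬ : FibCat.IsFibGrpd (FibCat.fp y y').p := isFibGrpd_fp _ _ hV hV' h𝒴
  obtain ⟨B, b, hb₁, hb₂⟩ := exists_atlas_fp y y' (RepByAlgSpWith.repByAlgSp1 hy')
  have hB := isFibGrpd_overCat B
  have hpV : Sm (FibCat.fpFst y y') := repByAlgSpWith_fpFst _ y' y hy'
  have hpV' : Sm (FibCat.fpSnd y y') := repByAlgSpWith_fpSnd _ y y' hy
  obtain ⟨β₁, ⟨γ₁⟩⟩ := exists_iso_ovMap (BasedFunctor.comp b (FibCat.fpFst y y'))
  obtain ⟨β₂, ⟨γ₂⟩⟩ := exists_iso_ovMap (BasedFunctor.comp b (FibCat.fpSnd y y'))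
  have hβ₁ : AlgSp.LocP @Smooth ((AlgSp.yon S).map β₁) :=
    locP_smooth_of_sm_ovMap β₁ (repByAlgSpWith_of_iso γ₁.symm (sm_comp hB hℬ b _ hb₁ hpV))
  have hβ₂ : AlgSp.LocP @Smooth ((AlgSp.yon S).map β₂) :=
    locP_smooth_of_sm_ovMap β₂ (repByAlgSpWith_of_iso γ₂.symm (sm_comp hB hℬ b _ hb₁ hpV'))
  -- the scheme `U₁ = U ×_V B`
  have sq : IsPullback ((AlgSp.yon S).map (pullback.fst h β₁))
      ((AlgSp.yon S).map (pullback.snd h β₁)) ((AlgSp.yon S).map h) ((AlgSp.yon S).map β₁) :=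
    (IsPullback.of_hasPullback h β₁).map (AlgSp.yon S)
  have hp₂ : P ((AlgSp.yon S).map (pullback.snd h β₁)) :=
    hP.baseChange (AlgSp.IsAlgSpace.yon_obj U) (AlgSp.IsAlgSpace.yon_obj V)
      (AlgSp.IsAlgSpace.yon_obj (pullback h β₁)) (AlgSp.IsAlgSpace.yon_obj B) _ _ _ _ sq hβ₁ hPh
  have hk₁ : P ((AlgSp.yon S).map (pullback.snd h β₁ ≫ β₂)) := by
    rw [Functor.map_comp]
    exact postcomp_smooth hP (AlgSp.IsAlgSpace.yon_obj _) (AlgSp.IsAlgSpace.yon_obj B)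
      (AlgSp.IsAlgSpace.yon_obj V') _ _ hp₂ hβ₂
  -- the functors
  have : (BasedFunctor.id (FibCat.overCat V)).toFunctor.Full :=
    (inferInstance : (𝟭 (Over V)).Full)
  have : (BasedFunctor.id (FibCat.overCat V)).toFunctor.Faithful :=
    (inferInstance : (𝟭 (Over V)).Faithful)
  have : (BasedFunctor.id 𝒴).toFunctor.Full := (inferInstance : (𝟭 𝒴.obj).Full)
  have : (BasedFunctor.id 𝒴).toFunctor.Faithful := (inferInstance : (𝟭 𝒴.obj).Faithful)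
  let pV := FibCat.fpFst y y'
  let pV' := FibCat.fpSnd y y'
  let c₁ : FibCat.overCat (pullback h β₁) ⥤ᵇ FibCat.fp (ovMap h) (ovMap β₁) := ovPbLift h β₁
  have hc₁ : FibCat.IsEquivOver c₁ := isEquivOver_ovPbLift h β₁
  let γ₁' : BasedFunctor.comp (ovMap β₁) (BasedFunctor.id (FibCat.overCat V)) ≅
      BasedFunctor.comp (BasedFunctor.id (FibCat.overCat B)) (BasedFunctor.comp b pV) := γ₁.symm
  let c₂ : FibCat.fp (ovMap h) (ovMap β₁) ⥤ᵇ FibCat.fp (ovMap h) (BasedFunctor.comp b pV) :=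
    fpMap (ovMap h) (BasedFunctor.comp b pV) (ovMap h) (ovMap β₁) (BasedFunctor.id _)
      (BasedFunctor.id _) (BasedFunctor.id _) (Iso.refl _) γ₁'
  have hc₂ : FibCat.IsEquivOver c₂ :=
    isEquivOver_fpMap _ _ _ _ _ _ _ _ _ (isEquivOver_id _) (isEquivOver_id _)
  let c₃ : FibCat.fp (ovMap h) (BasedFunctor.comp b pV) ⥤ᵇ FibCat.fp (ovMap h) pV :=
    fpPaste₂Fst b pV (ovMap h)
  let α' : BasedFunctor.comp (BasedFunctor.comp x f) (BasedFunctor.id 𝒴) ≅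
      BasedFunctor.comp (BasedFunctor.id (FibCat.overCat U)) (BasedFunctor.comp (ovMap h) y) := α
  let m₅ : FibCat.fp (BasedFunctor.comp x f) y' ⥤ᵇ FibCat.fp (BasedFunctor.comp (ovMap h) y) y' :=
    fpMap (BasedFunctor.comp (ovMap h) y) y' (BasedFunctor.comp x f) y' (BasedFunctor.id _)
      (BasedFunctor.id _) (BasedFunctor.id _) α' (Iso.refl _)
  have hm₅ : FibCat.IsEquivOver m₅ :=
    isEquivOver_fpMap _ _ _ _ _ _ _ _ _ (isEquivOver_id _) (isEquivOver_id _)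
  let e₄₅ : FibCat.fp (BasedFunctor.comp x f) y' ⥤ᵇ FibCat.fp (ovMap h) pV :=
    BasedFunctor.comp m₅ (fpPaste y' y (ovMap h))
  have he₄₅ : FibCat.IsEquivOver e₄₅ := isEquivOver_comp hm₅ (isEquivOver_fpPaste y' y (ovMap h))
  obtain ⟨d⟩ := IsEquivOver.nonempty_data he₄₅
  let c₆ : FibCat.fp (BasedFunctor.comp x f) y' ⥤ᵇ FibCat.fp f y' := fpPasteSnd y' f x
  let ℓ₁ : FibCat.overCat (pullback h β₁) ⥤ᵇ FibCat.fp f y' :=
    BasedFunctor.comp (BasedFunctor.comp c₁ c₂) (BasedFunctor.comp c₃ (BasedFunctor.comp d.inv c₆))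
  have hf₁ : FibCat.IsFibGrpd (FibCat.fp (ovMap h) (BasedFunctor.comp b pV)).p :=
    isFibGrpd_fp _ _ hU hB hV
  have hf₂ : FibCat.IsFibGrpd (FibCat.fp (ovMap h) pV).p := isFibGrpd_fp _ _ hU hℬ hV
  have key : ∀ (Q : MorphismProperty (AlgSp.Sp S)),
      (∀ {𝒜 ℬ' 𝒞 : AlgSt.Cat S}, FibCat.IsFibGrpd 𝒜.p → FibCat.IsFibGrpd ℬ'.p →
        ∀ (u : 𝒜 ⥤ᵇ ℬ') (v : ℬ' ⥤ᵇ 𝒞), RepByAlgSpWith Q u → RepByAlgSpWith Q v →
          RepByAlgSpWith Q (BasedFunctor.comp u v)) →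
      RepByAlgSpWith Q b → RepByAlgSpWith Q x → RepByAlgSpWith Q ℓ₁ := by
    intro Q hcomp hbQ hxQ
    have h1 : RepByAlgSpWith Q (BasedFunctor.comp d.inv c₆) :=
      rep_equiv_comp Q d.inv (isEquivOver_inv d) c₆ (rep_fpPasteSnd Q y' f x hxQ)
    have h2 : RepByAlgSpWith Q (BasedFunctor.comp c₃ (BasedFunctor.comp d.inv c₆)) :=
      hcomp hf₁ hf₂ c₃ _ (rep_fpPaste₂Fst Q b pV (ovMap h) hbQ) h1
    exact rep_equiv_comp Q (BasedFunctor.comp c₁ c₂) (isEquivOver_comp hc₁ hc₂) _ h2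
  refine ⟨pullback h β₁, ℓ₁, pullback.snd h β₁ ≫ β₂, ?_, ?_, ⟨?_⟩, hk₁⟩
  · exact key _ (fun h1 h2 u v hu hv => sm_comp h1 h2 u v hu hv) hb₁ hx
  · exact key _ (fun h1 h2 u v hu hv => sj_comp h1 h2 u v hu hv) hb₂ hxs
  · -- the composite to `V'`
    let q : FibCat.fp (ovMap h) pV ⥤ᵇ FibCat.overCat V' :=
      BasedFunctor.comp (FibCat.fpSnd (ovMap h) pV) pV'
    have h1 : BasedFunctor.comp ℓ₁ (FibCat.fpSnd f y') =
        BasedFunctor.comp (BasedFunctor.comp (BasedFunctor.comp c₁ c₂) c₃)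
          (BasedFunctor.comp (BasedFunctor.comp d.inv e₄₅) q) := rfl
    have h2 : BasedFunctor.comp (BasedFunctor.comp (BasedFunctor.comp c₁ c₂) c₃)
          (BasedFunctor.comp (BasedFunctor.id _) q) =
        BasedFunctor.comp (ovMap (pullback.snd h β₁)) (BasedFunctor.comp b pV') := rfl
    exact eqToIso h1 ≪≫
      bwlIso (BasedFunctor.comp (BasedFunctor.comp c₁ c₂) c₃) (bwrIso d.counit q) ≪≫
      eqToIso h2 ≪≫ bwlIso (ovMap (pullback.snd h β₁)) γ₂ ≪≫ ovMapCompIso _ _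

/-- the chart-square theorem, for one given square -/
theorem prop_of_square (hP : AlgSp.IsSmoothLocalST P) (h𝒳 : FibCat.IsFibGrpd 𝒳.p)
    (h𝒴 : FibCat.IsFibGrpd 𝒴.p) (f : 𝒳 ⥤ᵇ 𝒴) {U V : Over S}
    (x : FibCat.overCat U ⥤ᵇ 𝒳) (y : FibCat.overCat V ⥤ᵇ 𝒴) (h : U ⟶ V)
    (α : BasedFunctor.comp x f ≅ BasedFunctor.comp (AlgSt.overMap h) y)
    (hx : Sm x) (hxs : Sj x) (hy : Sm y) (hPh : P ((AlgSp.yon S).map h))
    {U' V' : Over S} (x' : FibCat.overCat U' ⥤ᵇ 𝒳) (y' : FibCat.overCat V' ⥤ᵇ 𝒴) (h' : U' ⟶ V')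
    (α' : BasedFunctor.comp x' f ≅ BasedFunctor.comp (AlgSt.overMap h') y')
    (hy' : Sm y') (hℓ' : Sm (FibCat.fpLift x' (AlgSt.overMap h') α')) :
    P ((AlgSp.yon S).map h') := by
  obtain ⟨U₁, ℓ₁, k₁, h1, h2, ⟨e₁⟩, hk⟩ := exists_chart hP h𝒳 h𝒴 f x y h α hx hxs hy hPh y' hy'
  have h𝒬 : FibCat.IsFibGrpd (FibCat.fp f y').p :=
    isFibGrpd_fp _ _ h𝒳 (isFibGrpd_overCat V') h𝒴
  have e' : BasedFunctor.comp (FibCat.fpLift x' (AlgSt.overMap h') α') (FibCat.fpSnd f y') ≅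
      ovMap h' := Iso.refl _
  exact transfer hP h𝒬 (FibCat.fpSnd f y') ℓ₁ _ h1 h2 hℓ' k₁ h' e₁ e' hk

/-- the chart-square theorem: a property smooth local on the source-and-target which holds on one
chart square (with surjective source chart) holds on every chart square whose lift to the fibre
product is smooth -/
theorem prop_of_locQ (hP : AlgSp.IsSmoothLocalST P) (h𝒳 : FibCat.IsFibGrpd 𝒳.p)
    (h𝒴 : FibCat.IsFibGrpd 𝒴.p) (f : 𝒳 ⥤ᵇ 𝒴) (hf : LocQ P f)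
    {U' V' : Over S} (x' : FibCat.overCat U' ⥤ᵇ 𝒳) (y' : FibCat.overCat V' ⥤ᵇ 𝒴) (h' : U' ⟶ V')
    (α' : BasedFunctor.comp x' f ≅ BasedFunctor.comp (AlgSt.overMap h') y')
    (hy' : Sm y') (hℓ' : Sm (FibCat.fpLift x' (AlgSt.overMap h') α')) :
    P ((AlgSp.yon S).map h') := by
  obtain ⟨U, V, x, y, h, α, hx, hxs, hy, hPh⟩ := hf
  exact prop_of_square hP h𝒳 h𝒴 f x y h α hx hxs hy hPh x' y' h' α' hy' hℓ'

end stepA

end Groth.Agent.H64.LocQ
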