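import Groth.Agent.H64.LocQ.Rep

set_option autoImplicit false
universe u
open CategoryTheory CategoryTheory.Limits AlgebraicGeometry Opposite

/-! Variant of the chart construction for properties stable under arbitrary base change;
composition and base change of `LocQ P`. -/

namespace Groth.Agent.H64.LocQ

open AlgSt Groth.Agent.H32 Groth.Agent.H64 Groth.Agent.H64.Recog Groth.Agent.H64.FpRep
  Groth.Agent.H64.PTh

variable {S : Scheme.{u}} {P : MorphismProperty (AlgSp.Sp S)} {𝒳 𝒴 : AlgSt.Cat S}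

/-- Step A for an arbitrary chart `y' : V' ⟶ 𝒴` (representable by algebraic spaces), given that
all base changes of `h` to schemes have `P`. -/
theorem exists_chart_of_bc (hP : AlgSp.IsSmoothLocalST P)
    (h𝒴 : FibCat.IsFibGrpd 𝒴.p) (f : 𝒳 ⥤ᵇ 𝒴) {U V V' : Over S}
    (x : FibCat.overCat U ⥤ᵇ 𝒳) (y : FibCat.overCat V ⥤ᵇ 𝒴) (h : U ⟶ V)
    (α : BasedFunctor.comp x f ≅ BasedFunctor.comp (AlgSt.overMap h) y)
    (hx : Sm x) (hxs : Sj x) (hy : Sm y)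
    (hbc : ∀ {B : Over S} (β₁ : B ⟶ V), P ((AlgSp.yon S).map (pullback.snd h β₁)))
    (y' : FibCat.overCat V' ⥤ᵇ 𝒴) (hy' : RepByAlgSp1 y') :
    ∃ (U₁ : Over S) (ℓ₁ : FibCat.overCat U₁ ⥤ᵇ FibCat.fp f y') (k₁ : U₁ ⟶ V'),
      Sm ℓ₁ ∧ Sj ℓ₁ ∧ Nonempty (BasedFunctor.comp ℓ₁ (FibCat.fpSnd f y') ≅ ovMap k₁) ∧
        P ((AlgSp.yon S).map k₁) := by
  have hU := isFibGrpd_overCat U
  have hV := isFibGrpd_overCat V
  have hV' := isFibGrpd_overCat V'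
  have hℬ : FibCat.IsFibGrpd (FibCat.fp y y').p := isFibGrpd_fp _ _ hV hV' h𝒴
  obtain ⟨B, b, hb₁, hb₂⟩ := exists_atlas_fp y y' hy'
  have hB := isFibGrpd_overCat B
  have hpV' : Sm (FibCat.fpSnd y y') := repByAlgSpWith_fpSnd _ y y' hy
  obtain ⟨β₁, ⟨γ₁⟩⟩ := exists_iso_ovMap (BasedFunctor.comp b (FibCat.fpFst y y'))
  obtain ⟨β₂, ⟨γ₂⟩⟩ := exists_iso_ovMap (BasedFunctor.comp b (FibCat.fpSnd y y'))
  have hβ₂ : AlgSp.LocP @Smooth ((AlgSp.yon S).map β₂) :=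
    locP_smooth_of_sm_ovMap β₂ (repByAlgSpWith_of_iso γ₂.symm (sm_comp hB hℬ b _ hb₁ hpV'))
  have hp₂ : P ((AlgSp.yon S).map (pullback.snd h β₁)) := hbc β₁
  have hk₁ : P ((AlgSp.yon S).map (pullback.snd h β₁ ≫ β₂)) := by
    rw [Functor.map_comp]
    exact postcomp_smooth hP (AlgSp.IsAlgSpace.yon_obj _) (AlgSp.IsAlgSpace.yon_obj B)
      (AlgSp.IsAlgSpace.yon_obj V') _ _ hp₂ hβ₂
  -- the functors
  have : (BasedFunctor.id (FibCat.overCat V)).toFunctor.Full :=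
    (inferInstance : (𝟭 (Over V)).Full)
  have : (BasedFunctor.id (FibCat.overCat V)).toFunctor.Faithful :=
    (inferInstance : (𝟭 (Over V)).Faithful)
  have : (BasedFunctor.id 𝒴).toFunctor.Full := (inferInstance : (𝟭 𝒴.obj).Full)
  have : (BasedFunctor.id 𝒴).toFunctor.Faithful := (inferInstance : (𝟭 𝒴.obj).Faithful)
  let pV := FibCat.fpFst y y'
  let pV' := FibCat.fpSnd y y'
  let c₁ : FibCat.overCat (pullback h β₁) ⥤ᵇ FibCat.fp (ovMap h) (ovMap β₁) := ovPbLift h β₁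
  have hc₁ : FibCat.IsEquivOver c₁ := isEquivOver_ovPbLift h β₁
  let γ₁' : BasedFunctor.comp (ovMap β₁) (BasedFunctor.id (FibCat.overCat V)) ≅
      BasedFunctor.comp (BasedFunctor.id (FibCat.overCat B)) (BasedFunctor.comp b pV) := γ₁.symm
  let c₂ : FibCat.fp (ovMap h) (ovMap β₁) ⥤ᵇ FibCat.fp (ovMap h) (BasedFunctor.comp b pV) :=
    fpMap (ovMap h) (BasedFunctor.comp b pV) (ovMap h) (ovMap β₁) (BasedFunctor.id _)
      (BasedFunctor.id _) (BasedFunctor.id _) (Iso.refl _) γ₁'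
  have hc₂ : FibCat.IsEquivOver c₂ :=
    isEquivOver_fpMap _ _ _ _ _ _ _ _ _ (isEquivOver_id _) (isEquivOver_id _)
  let c₃ : FibCat.fp (ovMap h) (BasedFunctor.comp b pV) ⥤ᵇ FibCat.fp (ovMap h) pV :=
    fpPaste₂Fst b pV (ovMap h)
  let α' : BasedFunctor.comp (BasedFunctor.comp x f) (BasedFunctor.id 𝒴) ≅
      BasedFunctor.comp (BasedFunctor.id (FibCat.overCat U)) (BasedFunctor.comp (ovMap h) y) := α
  let m₅ : FibCat.fp (BasedFunctor.comp x f) y' ⥤ᵇ FibCat.fp (BasedFunctor.comp (ovMap h) y) y' :=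
    fpMap (BasedFunctor.comp (ovMap h) y) y' (BasedFunctor.comp x f) y' (BasedFunctor.id _)
      (BasedFunctor.id _) (BasedFunctor.id _) α' (Iso.refl _)
  have hm₅ : FibCat.IsEquivOver m₅ :=
    isEquivOver_fpMap _ _ _ _ _ _ _ _ _ (isEquivOver_id _) (isEquivOver_id _)
  let e₄₅ : FibCat.fp (BasedFunctor.comp x f) y' ⥤ᵇ FibCat.fp (ovMap h) pV :=
    BasedFunctor.comp m₅ (fpPaste y' y (ovMap h))
  have he₄₅ : FibCat.IsEquivOver e₄₅ := isEquivOver_comp hm₅ (isEquivOver_fpPaste y' y (ovMap h))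
  obtain ⟨d⟩ := IsEquivOver.nonempty_data he₄₅
  let c₆ : FibCat.fp (BasedFunctor.comp x f) y' ⥤ᵇ FibCat.fp f y' := fpPasteSnd y' f x
  let ℓ₁ : FibCat.overCat (pullback h β₁) ⥤ᵇ FibCat.fp f y' :=
    BasedFunctor.comp (BasedFunctor.comp c₁ c₂) (BasedFunctor.comp c₃ (BasedFunctor.comp d.inv c₆))
  have hf₁ : FibCat.IsFibGrpd (FibCat.fp (ovMap h) (BasedFunctor.comp b pV)).p :=
    isFibGrpd_fp _ _ hU hB hV
  have hf₂ : FibCat.IsFibGrpd (FibCat.fp (ovMap h) pV).p := isFibGrpd_fp _ _ hU hℬ hV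
  have key : ∀ (Q : MorphismProperty (AlgSp.Sp S)),
      (∀ {𝒜 ℬ' 𝒞 : AlgSt.Cat S}, FibCat.IsFibGrpd 𝒜.p → FibCat.IsFibGrpd ℬ'.p →
        ∀ (u : 𝒜 ⥤ᵇ ℬ') (v : ℬ' ⥤ᵇ 𝒞), RepByAlgSpWith Q u → RepByAlgSpWith Q v →
          RepByAlgSpWith Q (BasedFunctor.comp u v)) →
      RepByAlgSpWith Q b → RepByAlgSpWith Q x → RepByAlgSpWith Q ℓ₁ := by
    intro Q hcomp hbQ hxQ
    have h1 : RepByAlgSpWith Q (BasedFunctor.comp d.inv c₆) :=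
      rep_equiv_comp Q d.inv (isEquivOver_inv d) c₆ (rep_fpPasteSnd Q y' f x hxQ)
    have h2 : RepByAlgSpWith Q (BasedFunctor.comp c₃ (BasedFunctor.comp d.inv c₆)) :=
      hcomp hf₁ hf₂ c₃ _ (rep_fpPaste₂Fst Q b pV (ovMap h) hbQ) h1
    exact rep_equiv_comp Q (BasedFunctor.comp c₁ c₂) (isEquivOver_comp hc₁ hc₂) _ h2
  refine ⟨pullback h β₁, ℓ₁, pullback.snd h β₁ ≫ β₂, ?_, ?_, ⟨?_⟩, hk₁⟩
  · exact key _ (fun h1 h2 u v hu hv => sm_comp h1 h2 u v hu hv) hb₁ hx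
  · exact key _ (fun h1 h2 u v hu hv => sj_comp h1 h2 u v hu hv) hb₂ hxs
  · let q : FibCat.fp (ovMap h) pV ⥤ᵇ FibCat.overCat V' :=
      BasedFunctor.comp (FibCat.fpSnd (ovMap h) pV) pV'
    have h1 : BasedFunctor.comp ℓ₁ (FibCat.fpSnd f y') =
        BasedFunctor.comp (BasedFunctor.comp (BasedFunctor.comp c₁ c₂) c₃)
          (BasedFunctor.comp (BasedFunctor.comp d.inv e₄₅) q) := rfl
    have h2 : BasedFunctor.comp (BasedFunctor.comp (BasedFunctor.comp c₁ c₂) c₃)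
          (BasedFunctor.comp (BasedFunctor.id _) q) =
        BasedFunctor.comp (ovMap (pullback.snd h β₁)) (BasedFunctor.comp b pV') := rfl
    exact eqToIso h1 ≪≫
      bwlIso (BasedFunctor.comp (BasedFunctor.comp c₁ c₂) c₃) (bwrIso d.counit q) ≪≫
      eqToIso h2 ≪≫ bwlIso (ovMap (pullback.snd h β₁)) γ₂ ≪≫ ovMapCompIso _ _

/-- `LocQ P` is stable under composition when `P` is -/
theorem locQ_comp (hP : AlgSp.IsSmoothLocalST P)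
    (hPc : ∀ ⦃X₁ Y₁ Z₁ : AlgSp.Sp S⦄, AlgSp.IsAlgSpace X₁ → AlgSp.IsAlgSpace Y₁ →
      AlgSp.IsAlgSpace Z₁ → ∀ (a : X₁ ⟶ Y₁) (b : Y₁ ⟶ Z₁), P a → P b → P (a ≫ b))
    {𝒵 : AlgSt.Cat S} (h𝒳 : IsAlgStack Scheme.fppfPrecoverage 𝒳)
    (h𝒴 : IsAlgStack Scheme.fppfPrecoverage 𝒴) (h𝒵 : IsAlgStack Scheme.fppfPrecoverage 𝒵)
    (f : 𝒳 ⥤ᵇ 𝒴) (g : 𝒴 ⥤ᵇ 𝒵) (hf : LocQ P f) (hg : LocQ P g) :
    LocQ P (BasedFunctor.comp f g) := by
  obtain ⟨W, z, hz₁, hz₂⟩ := h𝒵.atlas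
  obtain ⟨V, y, hg', αg, hy, hℓg, -, hys⟩ := exists_good_square_over h𝒴 h𝒵 g z hz₁
  have hPg : P ((AlgSp.yon S).map hg') :=
    prop_of_locQ hP h𝒴.isStack.1 h𝒵.isStack.1 g hg y z hg' αg hz₁ hℓg
  obtain ⟨U, x, hf', αf, hx, hℓf, -, hxs⟩ := exists_good_square_over h𝒳 h𝒴 f y hy
  have hPf : P ((AlgSp.yon S).map hf') :=
    prop_of_locQ hP h𝒳.isStack.1 h𝒴.isStack.1 f hf x y hf' αf hy hℓf
  have e1 : BasedFunctor.comp x (BasedFunctor.comp f g) ≅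
      BasedFunctor.comp (AlgSt.overMap hf') (BasedFunctor.comp y g) := bwrIso αf g
  have e2 : BasedFunctor.comp (AlgSt.overMap hf') (BasedFunctor.comp y g) ≅
      BasedFunctor.comp (BasedFunctor.comp (ovMap hf') (ovMap hg')) z :=
    bwlIso (AlgSt.overMap hf') αg
  have e3 : BasedFunctor.comp (BasedFunctor.comp (ovMap hf') (ovMap hg')) z ≅
      BasedFunctor.comp (AlgSt.overMap (hf' ≫ hg')) z := bwrIso (ovMapCompIso hf' hg') z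
  refine ⟨U, W, x, z, hf' ≫ hg', e1 ≪≫ e2 ≪≫ e3, hx, hxs (hys hz₂), hz₁, ?_⟩
  rw [Functor.map_comp]
  exact hPc (AlgSp.IsAlgSpace.yon_obj U) (AlgSp.IsAlgSpace.yon_obj V) (AlgSp.IsAlgSpace.yon_obj W)
    _ _ hPf hPg

/-- `LocQ P` is stable under base change when `P` is -/
theorem locQ_fpFst (hP : AlgSp.IsSmoothLocalST P) (hPb : StableBC P)
    {𝒴' : AlgSt.Cat S} (h𝒳 : IsAlgStack Scheme.fppfPrecoverage 𝒳)
    (h𝒴 : IsAlgStack Scheme.fppfPrecoverage 𝒴) (h𝒴' : IsAlgStack Scheme.fppfPrecoverage 𝒴')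
    (f : 𝒳 ⥤ᵇ 𝒴) (g : 𝒴' ⥤ᵇ 𝒴) (hf : LocQ P f) : LocQ P (FibCat.fpFst g f) := by
  obtain ⟨U, V, x, y, h, α, hx, hxs, hy, -, hℓ, -⟩ := exists_good_square h𝒳 h𝒴 f
  have hPh : P ((AlgSp.yon S).map h) :=
    prop_of_locQ hP h𝒳.isStack.1 h𝒴.isStack.1 f hf x y h α hy hℓ
  have h𝒳' : IsAlgStack Scheme.fppfPrecoverage (FibCat.fp g f) :=
    isAlgStack_fp h𝒴.isStack.1 h𝒴.diag h𝒴' h𝒳 g f
  obtain ⟨U', V', x', y', h', α', hx', hxs', hy', -, hℓ', -⟩ :=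
    exists_good_square h𝒳' h𝒴' (FibCat.fpFst g f)
  have hw : RepByAlgSp1 (BasedFunctor.comp y' g) := (repByAlgSp1_diag_iff.mp h𝒴.diag) V' _
  obtain ⟨U₁, ℓ₁, k₁, hℓ₁, hℓ₁s, ⟨e₁⟩, hk₁⟩ :=
    exists_chart_of_bc hP h𝒴.isStack.1 f x y h α hx hxs hy
      (fun {B} β₁ => hPb (AlgSp.IsAlgSpace.yon_obj U) (AlgSp.IsAlgSpace.yon_obj V)
        (AlgSp.IsAlgSpace.yon_obj (pullback h β₁)) (AlgSp.IsAlgSpace.yon_obj B) _ _ _ _
        ((IsPullback.of_hasPullback h β₁).map (AlgSp.yon S)) hPh)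
      (BasedFunctor.comp y' g) hw
  let Θ : FibCat.fp f (BasedFunctor.comp y' g) ⥤ᵇ FibCat.fp (FibCat.fpFst g f) y' :=
    BasedFunctor.comp (fpSwap f (BasedFunctor.comp y' g))
      (BasedFunctor.comp (fpPaste f g y') (fpSwap y' (FibCat.fpFst g f)))
  have hΘ : FibCat.IsEquivOver Θ :=
    isEquivOver_comp (isEquivOver_fpSwap _ _)
      (isEquivOver_comp (isEquivOver_fpPaste f g y') (isEquivOver_fpSwap _ _))
  have h𝒬 : FibCat.IsFibGrpd (FibCat.fp (FibCat.fpFst g f) y').p :=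
    isFibGrpd_fp _ _ h𝒳'.isStack.1 (isFibGrpd_overCat V') h𝒴'.isStack.1
  have e₁' : BasedFunctor.comp (BasedFunctor.comp ℓ₁ Θ) (FibCat.fpSnd (FibCat.fpFst g f) y') ≅
      ovMap k₁ := e₁
  have e' : BasedFunctor.comp (FibCat.fpLift x' (AlgSt.overMap h') α')
      (FibCat.fpSnd (FibCat.fpFst g f) y') ≅ ovMap h' := Iso.refl _
  have hP' : P ((AlgSp.yon S).map h') :=
    transfer hP h𝒬 (FibCat.fpSnd (FibCat.fpFst g f) y') (BasedFunctor.comp ℓ₁ Θ) _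
      (repByAlgSpWith_comp_equiv _ ℓ₁ Θ hΘ hℓ₁) (repByAlgSpWith_comp_equiv _ ℓ₁ Θ hΘ hℓ₁s) hℓ'
      k₁ h' e₁' e' hk₁
  exact ⟨U', V', x', y', h', α', hx', hxs', hy', hP'⟩

end Groth.Agent.H64.LocQ
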