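import Groth.Agent.H64.LocQ.FlatDescent

set_option autoImplicit false
universe u
open CategoryTheory CategoryTheory.Limits AlgebraicGeometry Opposite

/-! Flatness descends along flat surjective base change. -/

namespace Groth.Agent.H64.LocQ

open AlgSt Groth.Agent.H32 Groth.Agent.H64 Groth.Agent.H64.Recog Groth.Agent.H64.FpRep
  Groth.Agent.H64.PTh Groth.Agent.H64.Pts

variable {S : Scheme.{u}} {𝒳 𝒴 𝒵 : AlgSt.Cat S}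

/-- `LocQ P` is invariant under 2-isomorphisms -/
theorem locQ_of_iso {P : MorphismProperty (AlgSp.Sp S)} {F G : 𝒳 ⥤ᵇ 𝒴} (e : F ≅ G)
    (h : LocQ P F) : LocQ P G := by
  obtain ⟨U, V, x, y, k, α, hx, hxs, hy, hP⟩ := h
  exact ⟨U, V, x, y, k, bwlIso x e.symm ≪≫ α, hx, hxs, hy, hP⟩

theorem locP_flat_id (Y : AlgSp.Sp S) : AlgSp.LocP @Flat (𝟙 Y) :=
  PTh.locP_mono smooth_le_flat _ (Groth.Agent.H65.AlgStQC4.locP_smooth_id Y)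

/-- an equivalence is flat on charts -/
theorem locQ_flat_of_isEquivOver (h𝒴 : IsAlgStack Scheme.fppfPrecoverage 𝒴) (E : 𝒳 ⥤ᵇ 𝒴)
    (hE : FibCat.IsEquivOver E) : LocQ (AlgSp.LocP @Flat) E :=
  locQ_of_repByAlgSpWith isSmoothLocalST_flat h𝒴 E
    (Groth.Agent.H65.AlgStEquivP.repByAlgSpWith_of_isEquivOver _ (fun _ => locP_flat_id _) E hE)

theorem locQ_flat_comp {𝒜 ℬ 𝒞 : AlgSt.Cat S} (h𝒜 : IsAlgStack Scheme.fppfPrecoverage 𝒜)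
    (hℬ : IsAlgStack Scheme.fppfPrecoverage ℬ) (h𝒞 : IsAlgStack Scheme.fppfPrecoverage 𝒞)
    (f : 𝒜 ⥤ᵇ ℬ) (g : ℬ ⥤ᵇ 𝒞) (hf : LocQ (AlgSp.LocP @Flat) f)
    (hg : LocQ (AlgSp.LocP @Flat) g) : LocQ (AlgSp.LocP @Flat) (BasedFunctor.comp f g) :=
  locQ_comp isSmoothLocalST_flat
    (fun _ _ _ _ hY' _ a b ha hb => Groth.Agent.H50.goodClass_flat.locP_comp hY' a b ha hb)
    h𝒜 hℬ h𝒞 f g hf hg

/-- Let `f : 𝒳 → 𝒴` be a morphism of algebraic stacks and `𝒵 → 𝒴` a flat surjective morphism of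
algebraic stacks. If `𝒵 ×_𝒴 𝒳 → 𝒵` is flat, so is `f`. -/
theorem locQ_flat_of_fpFst (h𝒳 : IsAlgStack Scheme.fppfPrecoverage 𝒳)
    (h𝒴 : IsAlgStack Scheme.fppfPrecoverage 𝒴) (h𝒵 : IsAlgStack Scheme.fppfPrecoverage 𝒵)
    (f : 𝒳 ⥤ᵇ 𝒴) (z : 𝒵 ⥤ᵇ 𝒴) (hz₁ : LocQ (AlgSp.LocP @Flat) z) (hz₂ : IsSurjective z)
    (h : LocQ (AlgSp.LocP @Flat) (FibCat.fpFst z f)) : LocQ (AlgSp.LocP @Flat) f := by
  have hfp : IsAlgStack Scheme.fppfPrecoverage (FibCat.fp z f) :=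
    isAlgStack_fp h𝒴.isStack.1 h𝒴.diag h𝒵 h𝒳 z f
  have hfp' : IsAlgStack Scheme.fppfPrecoverage (FibCat.fp f z) :=
    isAlgStack_fp h𝒴.isStack.1 h𝒴.diag h𝒳 h𝒵 f z
  -- the projection to `𝒳` is flat and surjective
  have hp₁ : LocQ (AlgSp.LocP @Flat) (FibCat.fpSnd z f) := by
    have h1 : LocQ (AlgSp.LocP @Flat) (FibCat.fpFst f z) :=
      locQ_fpFst isSmoothLocalST_flat (stableBC_locP Groth.Agent.H50.goodClass_flat) h𝒵 h𝒴 h𝒳 z f hz₁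
    exact locQ_flat_comp hfp hfp' h𝒳 (fpSwap z f) (FibCat.fpFst f z)
      (locQ_flat_of_isEquivOver hfp' _ (isEquivOver_fpSwap z f)) h1
  have hp₂ : IsSurjective (FibCat.fpSnd z f) :=
    isSurjective_fpSnd' h𝒵.isStack.1 h𝒴.isStack.1 h𝒳.isStack.1 z f hz₂
  -- the composite to `𝒴` is flat
  have hc : LocQ (AlgSp.LocP @Flat) (BasedFunctor.comp (FibCat.fpSnd z f) f) :=
    locQ_of_iso (FibCat.fpIso z f) (locQ_flat_comp hfp h𝒵 h𝒴 _ z h hz₁)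
  exact locQ_flat_of_comp hfp h𝒳 h𝒴 (FibCat.fpSnd z f) f hp₁ hp₂ hc

end Groth.Agent.H64.LocQ
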