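import Groth.Agent.H64.LocQ.SmoothST
import Groth.Agent.S10580
import Groth.Agent.H49.CMMor

set_option autoImplicit false
universe u
open CategoryTheory CategoryTheory.Limits AlgebraicGeometry Opposite

/-! Flatness of morphisms of algebraic spaces is smooth local on the source-and-target. -/

namespace Groth.Agent.H64.LocQ

open AlgSt Groth.Agent.H32 Groth.Agent.H64 Groth.Agent.H64.Recog Groth.Agent.H64.FpRep
  Groth.Agent.H64.PTh

variable {S : Scheme.{u}}

/-- flatness descends along a flat surjective morphism on the source -/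
theorem flat_of_comp_flat_surjective {X Y Z : Scheme.{u}} (k : X ⟶ Y) (h : Y ⟶ Z) [Flat k]
    (hk : Function.Surjective k) (hkh : Flat (k ≫ h)) : Flat h := by
  rw [Flat.iff_flat_stalkMap]
  intro y
  obtain ⟨x, rfl⟩ := hk y
  exact Groth.Agent.H49.CMMor.flat_stalkMap_of_comp k h x (Flat.stalkMap k x)
    (Flat.stalkMap (k ≫ h) x)

/-- Being flat is local on the source for the smooth precoverage. -/
theorem flat_isLocalAtSource_smoothPrecoverage :
    MorphismProperty.IsLocalAtSource (@Flat : MorphismProperty Scheme.{u})
      (Scheme.precoverage @Smooth) where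
  __ := (MorphismProperty.IsStableUnderBaseChange.respectsIso :
    MorphismProperty.RespectsIso (@Flat.{u}))
  comp {X Y f R} hR U g hg hf := by
    have : Smooth g := hR.2 hg
    have : Flat f := hf
    exact (inferInstance : Flat (g ≫ f))
  of_forall_comp {X Y f R} hR H := by
    have hsurj : ∀ x : X, ∃ (U : Scheme.{u}) (g : U ⟶ X), R g ∧ x ∈ Set.range g := by
      have := hR.1
      rw [Scheme.jointlySurjectivePrecoverage,
        Presieve.mem_comap_jointlySurjectivePrecoverage_iff] at this
      intro x
      obtain ⟨U, g, hg, y, hy⟩ := this x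
      exact ⟨U, g, hg, y, hy⟩
    show Flat f
    rw [Flat.iff_flat_stalkMap]
    intro x
    obtain ⟨U, g, hg, u, rfl⟩ := hsurj x
    have : Smooth g := hR.2 hg
    have hgf : Flat (g ≫ f) := H hg
    exact Groth.Agent.H49.CMMor.flat_stalkMap_of_comp g f u (Flat.stalkMap g u)
      (Flat.stalkMap (g ≫ f) u)

/-- flatness is smooth local on the source-and-target -/
theorem isSmoothLocalST_flat : AlgSp.IsSmoothLocalST (AlgSp.LocP (S := S) @Flat) :=
  Groth.Agent.S10567.result _
    ((Groth.Agent.S10580.result S @Flat).2.2.1 flat_isLocalAtSource_smoothPrecoverage)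
    (isLocalOnBase_sm_of_fppf isLocalOnBase_fppf_flat)
    (fun _ Y _ f g hf hg => Groth.Agent.H50.goodClass_flat.locP_comp Y.property f.hom g.hom hf
      (PTh.locP_mono smooth_le_flat _ hg))

end Groth.Agent.H64.LocQ
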