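import Groth.Agent.H64.LocQ.CompSquare
import Groth.Agent.H64.LocQ.FlatST
import Groth.Agent.H64.FPtFp

set_option autoImplicit false
universe u
open CategoryTheory CategoryTheory.Limits AlgebraicGeometry Opposite

/-! Flatness descends along flat surjective morphisms of algebraic stacks on the source. -/

namespace Groth.Agent.H64.LocQ

open AlgSt Groth.Agent.H32 Groth.Agent.H64 Groth.Agent.H64.Recog Groth.Agent.H64.FpRep
  Groth.Agent.H64.PTh Groth.Agent.H64.Pts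

variable {S : Scheme.{u}} {𝒳 𝒴 𝒵 : AlgSt.Cat S}

/-- the second projection of a 2-fibre product is surjective when the first functor is -/
theorem isSurjective_fpSnd' (h𝒳 : FibCat.IsFibGrpd 𝒳.p) (h𝒴 : FibCat.IsFibGrpd 𝒴.p)
    (h𝒵 : FibCat.IsFibGrpd 𝒵.p) (f : 𝒳 ⥤ᵇ 𝒴) (g : 𝒵 ⥤ᵇ 𝒴) (hf : IsSurjective f) :
    IsSurjective (FibCat.fpSnd f g) := by
  intro z
  obtain ⟨x, hx⟩ := hf (Points.map g z)
  obtain ⟨w, -, hw⟩ := exists_points_fp_of_map_eq h𝒵 h𝒴 h𝒳 g f x z hx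
  exact ⟨w, hw⟩

/-- in a chart square of a surjective morphism whose lift is surjective, the morphism of charts
is surjective -/
theorem surjective_of_square (h𝒳 : FibCat.IsFibGrpd 𝒳.p) (h𝒴 : FibCat.IsFibGrpd 𝒴.p)
    (f : 𝒳 ⥤ᵇ 𝒴) (hf : IsSurjective f) {U V : Over S}
    (x : FibCat.overCat U ⥤ᵇ 𝒳) (y : FibCat.overCat V ⥤ᵇ 𝒴) (h : U ⟶ V)
    (α : BasedFunctor.comp x f ≅ BasedFunctor.comp (AlgSt.overMap h) y)
    (hℓ : Sm (FibCat.fpLift x (AlgSt.overMap h) α)) (hℓs : Sj (FibCat.fpLift x (AlgSt.overMap h) α)) :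
    Function.Surjective h.left := by
  have hU := isFibGrpd_overCat U
  have hV := isFibGrpd_overCat V
  have hfp : FibCat.IsFibGrpd (FibCat.fp f y).p := isFibGrpd_fp _ _ h𝒳 hV h𝒴
  have h1 : IsSurjective (FibCat.fpLift x (AlgSt.overMap h) α) :=
    (isSurjective_iff_repByAlgSpWith hU hfp _ (RepByAlgSpWith.repByAlgSp1 hℓ)).mpr hℓs
  have h2 : IsSurjective (FibCat.fpSnd f y) := isSurjective_fpSnd' h𝒳 h𝒴 hV f y hf
  intro v
  obtain ⟨w, hw⟩ := h2 (ptU V v)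
  obtain ⟨η, rfl⟩ := h1 w
  obtain ⟨u, rfl⟩ := (ptU_bijective U).2 η
  refine ⟨u, ?_⟩
  apply (ptU_bijective V).1
  rw [← map_overMap_ptU, ← hw, ← map_comp]
  rfl

/-- Let `𝒳 → 𝒴 → 𝒵` be morphisms of algebraic stacks with `𝒳 → 𝒵` flat and `𝒳 → 𝒴` surjective
and flat. Then `𝒴 → 𝒵` is flat. -/
theorem locQ_flat_of_comp (h𝒳 : IsAlgStack Scheme.fppfPrecoverage 𝒳)
    (h𝒴 : IsAlgStack Scheme.fppfPrecoverage 𝒴) (h𝒵 : IsAlgStack Scheme.fppfPrecoverage 𝒵)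
    (f : 𝒳 ⥤ᵇ 𝒴) (g : 𝒴 ⥤ᵇ 𝒵) (hf₁ : LocQ (AlgSp.LocP @Flat) f) (hf₂ : IsSurjective f)
    (hfg : LocQ (AlgSp.LocP @Flat) (BasedFunctor.comp f g)) : LocQ (AlgSp.LocP @Flat) g := by
  have hX := h𝒳.isStack.1
  have hY := h𝒴.isStack.1
  have hZ := h𝒵.isStack.1
  obtain ⟨V, W, y, z, hg, αg, hy, hys, hz, -, hℓg, -⟩ := exists_good_square h𝒴 h𝒵 g
  obtain ⟨U, x, hf, αf, hx, hℓf, hℓfs, -⟩ := exists_good_square_over h𝒳 h𝒴 f y hy
  have hflat_f : Flat hf.left :=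
    AlgSp.locP_yon_map (prop_of_locQ isSmoothLocalST_flat hX hY f hf₁ x y hf αf hy hℓf)
  have hsurj : Function.Surjective hf.left := surjective_of_square hX hY f hf₂ x y hf αf hℓf hℓfs
  have hℓ := sm_lift_comp f g x y z hf hg αf αg hX hY hZ hℓf hℓg
  have hflat_c : Flat (hf ≫ hg).left :=
    AlgSp.locP_yon_map (prop_of_locQ isSmoothLocalST_flat hX hZ _ hfg x z (hf ≫ hg)
      (compIso f g x y z hf hg αf αg) hz hℓ)
  have hflat_g : Flat hg.left := flat_of_comp_flat_surjective hf.left hg.left hsurj hflat_c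
  exact ⟨V, W, y, z, hg, αg, hy, hys, hz,
    Groth.Agent.H50.goodClass_flat.locP_yon_map hg hflat_g⟩

end Groth.Agent.H64.LocQ
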