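import Groth.Agent.H64.LocQ.Core

set_option autoImplicit false
universe v₅ u₅ v₄ u₄ v₃ u₃ v₂ u₂ v u
open CategoryTheory CategoryTheory.Limits AlgebraicGeometry Opposite

/-! Existence of chart squares whose lift to the fibre product is smooth and surjective. -/

namespace Groth.Agent.H64.LocQ

open AlgSt Groth.Agent.H32 Groth.Agent.H64 Groth.Agent.H64.Recog Groth.Agent.H64.FpRep
  Groth.Agent.H64.PTh

section fpiso

variable {C : Type u} [Category.{v} C] {𝒳 : BasedCategory.{v₂, u₂} C}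
  {𝒴 : BasedCategory.{v₃, u₃} C} {𝒮 : BasedCategory.{v₄, u₄} C} {𝒲 : BasedCategory.{v₅, u₅} C}
  (F : 𝒳 ⥤ᵇ 𝒮) (G : 𝒴 ⥤ᵇ 𝒮)

/-- a 2-isomorphism between functors into a 2-fibre product, from 2-isomorphisms of the two
components compatible with the structure isomorphisms -/
def fpFunctorIsoMk {K K' : 𝒲 ⥤ᵇ FibCat.fp F G}
    (e₁ : BasedFunctor.comp K (FibCat.fpFst F G) ≅ BasedFunctor.comp K' (FibCat.fpFst F G))
    (e₂ : BasedFunctor.comp K (FibCat.fpSnd F G) ≅ BasedFunctor.comp K' (FibCat.fpSnd F G))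
    (hw : ∀ t : 𝒲.obj, F.map (bapp e₁.hom t) ≫ (K'.obj t).obj.iso.hom =
      (K.obj t).obj.iso.hom ≫ G.map (bapp e₂.hom t)) : K ≅ K' :=
  mkBIso (fun t => fpIsoMk F G (z := K.obj t) (z' := K'.obj t) (bappIso e₁ t) (bappIso e₂ t) (hw t))
    (fun {t t'} m => by
      apply fp_hom_ext
      · exact bapp_naturality e₁.hom m
      · exact bapp_naturality e₂.hom m)
    (fun t => by
      have : 𝒳.p.IsHomLift (𝟙 (𝒲.p.obj t))
          (fpIsoMk F G (z := K.obj t) (z' := K'.obj t) (bappIso e₁ t) (bappIso e₂ t)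
            (hw t)).hom.hom.fst := bapp_isHomLift e₁.hom t
      exact fp_isHomLift_of_fst F G _ _)

end fpiso

variable {S : Scheme.{u}} {𝒳 𝒴 : AlgSt.Cat S}

/-- over any smooth chart `y : V ⟶ 𝒴` there is a chart square of `f` whose lift to `𝒳 ×_𝒴 V` is
smooth and surjective -/
theorem exists_good_square_over (h𝒳 : IsAlgStack Scheme.fppfPrecoverage 𝒳)
    (h𝒴 : IsAlgStack Scheme.fppfPrecoverage 𝒴) (f : 𝒳 ⥤ᵇ 𝒴) {V : Over S}
    (y : FibCat.overCat V ⥤ᵇ 𝒴) (hy : Sm y) :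
    ∃ (U : Over S) (x : FibCat.overCat U ⥤ᵇ 𝒳) (h : U ⟶ V)
      (α : BasedFunctor.comp x f ≅ BasedFunctor.comp (AlgSt.overMap h) y),
      Sm x ∧ Sm (FibCat.fpLift x (AlgSt.overMap h) α) ∧ Sj (FibCat.fpLift x (AlgSt.overMap h) α) ∧
        (Sj y → Sj x) := by
  have hV : IsAlgStack Scheme.fppfPrecoverage (FibCat.overCat V) :=
    Groth.Agent.H65.AlgStQC5.isAlgStack_overCat V
  have h𝒬 : IsAlgStack Scheme.fppfPrecoverage (FibCat.fp f y) :=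
    isAlgStack_fp h𝒴.isStack.1 h𝒴.diag h𝒳 hV f y
  obtain ⟨U, ℓ, hℓ₁, hℓ₂⟩ := h𝒬.atlas
  have hU := isFibGrpd_overCat U
  obtain ⟨h, ⟨γ⟩⟩ := exists_iso_ovMap (BasedFunctor.comp ℓ (FibCat.fpSnd f y))
  let x : FibCat.overCat U ⥤ᵇ 𝒳 := BasedFunctor.comp ℓ (FibCat.fpFst f y)
  let α : BasedFunctor.comp x f ≅ BasedFunctor.comp (AlgSt.overMap h) y :=
    bwlIso ℓ (FibCat.fpIso f y) ≪≫ bwrIso γ y
  let K : FibCat.overCat U ⥤ᵇ FibCat.fp f y := FibCat.fpLift x (AlgSt.overMap h) α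
  let e₁ : BasedFunctor.comp K (FibCat.fpFst f y) ≅ BasedFunctor.comp ℓ (FibCat.fpFst f y) :=
    Iso.refl _
  let e₂ : BasedFunctor.comp K (FibCat.fpSnd f y) ≅ BasedFunctor.comp ℓ (FibCat.fpSnd f y) :=
    γ.symm
  have hw : ∀ t : (FibCat.overCat U).obj, f.map (bapp e₁.hom t) ≫ (ℓ.obj t).obj.iso.hom =
      (K.obj t).obj.iso.hom ≫ y.map (bapp e₂.hom t) := by
    intro t
    show f.map (𝟙 ((ℓ.obj t).obj.fst)) ≫ (ℓ.obj t).obj.iso.hom =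
      ((ℓ.obj t).obj.iso.hom ≫ y.map (bapp γ.hom t)) ≫ y.map (bapp γ.inv t)
    have key : y.map (bapp γ.hom t) ≫ y.map (bapp γ.inv t) = 𝟙 _ := by
      rw [← y.map_comp, bapp_iso_hom_inv, y.map_id]
    rw [f.map_id, Category.id_comp, Category.assoc]
    exact ((congrArg (fun m => (ℓ.obj t).obj.iso.hom ≫ m) key).trans (Category.comp_id _)).symm
  have eK : K ≅ ℓ := fpFunctorIsoMk f y e₁ e₂ hw
  refine ⟨U, x, h, α, ?_, repByAlgSpWith_of_iso eK hℓ₁, repByAlgSpWith_of_iso eK hℓ₂, ?_⟩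
  · exact sm_comp hU h𝒬.isStack.1 ℓ _ hℓ₁ (repByAlgSpWith_fpFst _ y f hy)
  · intro hys
    exact sj_comp hU h𝒬.isStack.1 ℓ _ hℓ₂ (repByAlgSpWith_fpFst _ y f hys)

/-- a chart square of `f` with all charts smooth and surjective and smooth surjective lift -/
theorem exists_good_square (h𝒳 : IsAlgStack Scheme.fppfPrecoverage 𝒳)
    (h𝒴 : IsAlgStack Scheme.fppfPrecoverage 𝒴) (f : 𝒳 ⥤ᵇ 𝒴) :
    ∃ (U V : Over S) (x : FibCat.overCat U ⥤ᵇ 𝒳) (y : FibCat.overCat V ⥤ᵇ 𝒴) (h : U ⟶ V)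
      (α : BasedFunctor.comp x f ≅ BasedFunctor.comp (AlgSt.overMap h) y),
      Sm x ∧ Sj x ∧ Sm y ∧ Sj y ∧ Sm (FibCat.fpLift x (AlgSt.overMap h) α) ∧
        Sj (FibCat.fpLift x (AlgSt.overMap h) α) := by
  obtain ⟨V, y, hy₁, hy₂⟩ := h𝒴.atlas
  obtain ⟨U, x, h, α, h1, h2, h3, h4⟩ := exists_good_square_over h𝒳 h𝒴 f y hy₁
  exact ⟨U, V, x, y, h, α, h1, h4 hy₂, hy₁, hy₂, h2, h3⟩

end Groth.Agent.H64.LocQ
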