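import Groth.Agent.H64.LocQ.FlatST
import Groth.Agent.H53.SmoothSource
import Groth.Agent.H50.EtSrcInst
import Groth.Agent.H50.LfpCancel
import Groth.Agent.H51.EtSource
import Groth.Agent.S10526
import Groth.Agent.S10527

set_option autoImplicit false
universe u
open CategoryTheory CategoryTheory.Limits AlgebraicGeometry Opposite MorphismProperty

/-! Being locally of finite type / presentation is smooth local on the source-and-target. -/

namespace Groth.Agent.H64.LocQ

open AlgSt Groth.Agent.H32 Groth.Agent.H64 Groth.Agent.H64.Recog Groth.Agent.H64.FpRep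
  Groth.Agent.H64.PTh

variable {S : Scheme.{u}}

/-- a Zariski-source-local property which descends along surjective etale maps on the source and
passes to etale sections of smooth maps descends along smooth covering families on the source -/
theorem of_forall_comp_of_mem_smoothPrecoverage {P : MorphismProperty Scheme.{u}}
    [IsZariskiLocalAtSource P]
    (hdesc : ∀ {A B C : Scheme.{u}} (e : A ⟶ B) (h : B ⟶ C), Etale e → Surjective e →
      P (e ≫ h) → P h)
    (hsec : ∀ {V' U X Y : Scheme.{u}} (σ : V' ⟶ U) (g : U ⟶ X) (f : X ⟶ Y), Smooth g →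
      Etale (σ ≫ g) → P (g ≫ f) → P ((σ ≫ g) ≫ f))
    {X Y : Scheme.{u}} (f : X ⟶ Y) (R : Presieve X) (hR : R ∈ Scheme.precoverage @Smooth X)
    (H : ∀ ⦃U : Scheme.{u}⦄ ⦃g : U ⟶ X⦄, R g → P (g ≫ f)) : P f := by
  have hsurj : ∀ x : X, ∃ (U : Scheme.{u}) (g : U ⟶ X), R g ∧ x ∈ Set.range g := by
    have := hR.1
    rw [Scheme.jointlySurjectivePrecoverage,
      Presieve.mem_comap_jointlySurjectivePrecoverage_iff] at this
    intro x
    obtain ⟨U, g, hg, y, hy⟩ := this x
    exact ⟨U, g, hg, y, hy⟩
  choose U g hg hx using hsurj
  choose w hw using hx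
  have hsm : ∀ x, Smooth (g x) := fun x => hR.2 (hg x)
  have key : ∀ x, ∃ (V' : Scheme.{u}) (e : V' ⟶ X) (v' : V'),
      Etale e ∧ e v' = g x (w x) ∧ P (e ≫ f) := fun x => by
    have := hsm x
    obtain ⟨V', e, σ, v', he, hσ, hv'⟩ := Groth.Agent.H53.exists_etale_section_of_smooth (g x) (w x)
    refine ⟨V', e, v', he, hv', ?_⟩
    subst hσ
    exact hsec σ (g x) f (hsm x) he (H (hg x))
  choose V' e v' he hv' hef using key
  have hR' : Presieve.ofArrows V' e ∈ Scheme.precoverage (@Etale : MorphismProperty Scheme.{u}) X := by
    exact (Scheme.ofArrows_mem_precoverage_iff _).2 ⟨fun x => ⟨x, v' x, (hv' x).trans (hw x)⟩, he⟩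
  refine Groth.Agent.H51.of_forall_comp_of_mem_etalePrecoverage (P := P) hdesc f _ hR' ?_
  rintro _ _ ⟨x⟩
  exact hef x

theorem smooth_le_lft : (@Smooth : MorphismProperty Scheme.{u}) ≤ @LocallyOfFiniteType :=
  fun _ _ g hg => by
    have : Smooth g := hg
    exact (inferInstance : LocallyOfFiniteType g)

/-- Being locally of finite type is local on the source for the smooth precoverage. -/
theorem lft_isLocalAtSource_smoothPrecoverage :
    MorphismProperty.IsLocalAtSource (@LocallyOfFiniteType : MorphismProperty Scheme.{u})
      (Scheme.precoverage @Smooth) where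
  __ := (MorphismProperty.IsStableUnderBaseChange.respectsIso :
    MorphismProperty.RespectsIso (@LocallyOfFiniteType.{u}))
  comp {X Y f R} hR U g hg hf := by
    have : Smooth g := hR.2 hg
    have : LocallyOfFiniteType f := hf
    exact (inferInstance : LocallyOfFiniteType (g ≫ f))
  of_forall_comp {X Y f R} hR H :=
    have := HasRingHomProperty.instIsZariskiLocalAtSource (P := @LocallyOfFiniteType.{u})
    of_forall_comp_of_mem_smoothPrecoverage (P := @LocallyOfFiniteType.{u})
      (fun e h he hs H =>
        @Groth.Agent.H50.locallyOfFiniteType_of_comp_etale_surjective _ _ _ e h he hs H)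
      (fun σ g f hg he hgf => by
        have : Etale (σ ≫ g) := he
        have : LocallyOfFiniteType (σ ≫ g) := inferInstance
        have : LocallyOfFiniteType σ := locallyOfFiniteType_of_comp σ g
        have : LocallyOfFiniteType (g ≫ f) := hgf
        rw [Category.assoc]
        exact (inferInstance : LocallyOfFiniteType (σ ≫ g ≫ f)))
      f R hR H

/-- Being locally of finite presentation is local on the source for the smooth precoverage. -/
theorem lfp_isLocalAtSource_smoothPrecoverage :
    MorphismProperty.IsLocalAtSource (@LocallyOfFinitePresentation : MorphismProperty Scheme.{u})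
      (Scheme.precoverage @Smooth) where
  __ := (MorphismProperty.IsStableUnderBaseChange.respectsIso :
    MorphismProperty.RespectsIso (@LocallyOfFinitePresentation.{u}))
  comp {X Y f R} hR U g hg hf := by
    have : Smooth g := hR.2 hg
    have : LocallyOfFinitePresentation f := hf
    exact (inferInstance : LocallyOfFinitePresentation (g ≫ f))
  of_forall_comp {X Y f R} hR H :=
    have := HasRingHomProperty.instIsZariskiLocalAtSource (P := @LocallyOfFinitePresentation.{u})
    of_forall_comp_of_mem_smoothPrecoverage (P := @LocallyOfFinitePresentation.{u})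
      (fun e h he hs H =>
        @Groth.Agent.H51.locallyOfFinitePresentation_of_comp_etale_surjective _ _ _ e h he hs H)
      (fun σ g f hg he hgf => by
        have : Etale (σ ≫ g) := he
        have : Smooth g := hg
        have h1 : LocallyOfFinitePresentation (σ ≫ g) := inferInstance
        have h2 : LocallyOfFiniteType g := inferInstance
        have : LocallyOfFinitePresentation σ :=
          Groth.Agent.H50.locallyOfFinitePresentation_of_comp σ g h1 h2
        have : LocallyOfFinitePresentation (g ≫ f) := hgf
        rw [Category.assoc]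
        exact (inferInstance : LocallyOfFinitePresentation (σ ≫ g ≫ f)))
      f R hR H

theorem isLocalOnBase_fppf_lft :
    AlgSp.IsLocalOnBase (AlgSp.IsFppfCover (S := S)) (AlgSp.LocP @LocallyOfFiniteType) :=
  isLocalOnBase_fppf_of_fpqc (Groth.Agent.S10526.result S)

/-- being locally of finite type is smooth local on the source-and-target -/
theorem isSmoothLocalST_lft :
    AlgSp.IsSmoothLocalST (AlgSp.LocP (S := S) @LocallyOfFiniteType) :=
  Groth.Agent.S10567.result _
    ((Groth.Agent.S10580.result S @LocallyOfFiniteType).2.2.1
      lft_isLocalAtSource_smoothPrecoverage)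
    (isLocalOnBase_sm_of_fppf isLocalOnBase_fppf_lft)
    (fun _ Y _ f g hf hg => Groth.Agent.H50.goodClass_lft.locP_comp Y.property f.hom g.hom hf
      (PTh.locP_mono smooth_le_lft _ hg))

/-- being locally of finite presentation is smooth local on the source-and-target -/
theorem isSmoothLocalST_lfp :
    AlgSp.IsSmoothLocalST (AlgSp.LocP (S := S) @LocallyOfFinitePresentation) :=
  Groth.Agent.S10567.result _
    ((Groth.Agent.S10580.result S @LocallyOfFinitePresentation).2.2.1
      lfp_isLocalAtSource_smoothPrecoverage)
    (isLocalOnBase_sm_of_fppf isLocalOnBase_fppf_lfp)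
    (fun _ Y _ f g hf hg => Groth.Agent.H50.goodClass_lfp.locP_comp Y.property f.hom g.hom hf
      (PTh.locP_mono smooth_le_lfp _ hg))

end Groth.Agent.H64.LocQ
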