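import Groth.Agent.H64.LocQ.Space
import Groth.Agent.H64.Pts.Compact

set_option autoImplicit false
universe u
open CategoryTheory CategoryTheory.Limits AlgebraicGeometry Opposite

/-! For morphisms representable by algebraic spaces, `LocQ P` is `RepByAlgSpWith P`. -/

namespace Groth.Agent.H64.LocQ

open AlgSt Groth.Agent.H32 Groth.Agent.H64 Groth.Agent.H64.Recog Groth.Agent.H64.FpRep
  Groth.Agent.H64.PTh

variable {S : Scheme.{u}} {𝒳 𝒴 : AlgSt.Cat S}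

/-- a chart of the fibre product `𝒳 ×_𝒴 V` is the lift of a chart square -/
theorem exists_square_of_lift (f : 𝒳 ⥤ᵇ 𝒴) {U V : Over S} (y : FibCat.overCat V ⥤ᵇ 𝒴)
    (ℓ : FibCat.overCat U ⥤ᵇ FibCat.fp f y) :
    ∃ (h : U ⟶ V) (α : BasedFunctor.comp (BasedFunctor.comp ℓ (FibCat.fpFst f y)) f ≅
        BasedFunctor.comp (AlgSt.overMap h) y),
      Nonempty (FibCat.fpLift (BasedFunctor.comp ℓ (FibCat.fpFst f y)) (AlgSt.overMap h) α ≅ ℓ) ∧
        Nonempty (BasedFunctor.comp ℓ (FibCat.fpSnd f y) ≅ ovMap h) := by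
  obtain ⟨h, ⟨γ⟩⟩ := exists_iso_ovMap (BasedFunctor.comp ℓ (FibCat.fpSnd f y))
  let x : FibCat.overCat U ⥤ᵇ 𝒳 := BasedFunctor.comp ℓ (FibCat.fpFst f y)
  let α : BasedFunctor.comp x f ≅ BasedFunctor.comp (AlgSt.overMap h) y :=
    bwlIso ℓ (FibCat.fpIso f y) ≪≫ bwrIso γ y
  let K : FibCat.overCat U ⥤ᵇ FibCat.fp f y := FibCat.fpLift x (AlgSt.overMap h) α
  let e₁ : BasedFunctor.comp K (FibCat.fpFst f y) ≅ BasedFunctor.comp ℓ (FibCat.fpFst f y) :=
    Iso.refl _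
  let e₂ : BasedFunctor.comp K (FibCat.fpSnd f y) ≅ BasedFunctor.comp ℓ (FibCat.fpSnd f y) :=
    γ.symm
  have hw : ∀ t : (FibCat.overCat U).obj, f.map (bapp e₁.hom t) ≫ (ℓ.obj t).obj.iso.hom =
      (K.obj t).obj.iso.hom ≫ y.map (bapp e₂.hom t) := by
    intro t
    show f.map (𝟙 ((ℓ.obj t).obj.fst)) ≫ (ℓ.obj t).obj.iso.hom =
      ((ℓ.obj t).obj.iso.hom ≫ y.map (bapp γ.hom t)) ≫ y.map (bapp γ.inv t)
    have key : y.map (bapp γ.hom t) ≫ y.map (bapp γ.inv t) = 𝟙 _ := by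
      rw [← y.map_comp, bapp_iso_hom_inv, y.map_id]
    rw [f.map_id, Category.id_comp, Category.assoc]
    exact ((congrArg (fun m => (ℓ.obj t).obj.iso.hom ≫ m) key).trans (Category.comp_id _)).symm
  exact ⟨h, α, ⟨fpFunctorIsoMk f y e₁ e₂ hw⟩, ⟨γ⟩⟩

/-- source locality for one smooth surjective morphism from a scheme -/
theorem of_precomp_chart {P : MorphismProperty (AlgSp.Sp S)} (hP : AlgSp.IsSmoothLocalST P)
    {F G : AlgSp.Sp S} (hF : AlgSp.IsAlgSpace F) (hG : AlgSp.IsAlgSpace G) {U : Over S}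
    (q : (AlgSp.yon S).obj U ⟶ F) (π : F ⟶ G) (hq : AlgSp.LocP @Smooth q)
    (hqs : AlgSp.IsSurjectiveMor q) (h : P (q ≫ π)) : P π := by
  refine (hP.locality hF hG π).2 fun pt => ?_
  obtain ⟨v, hv⟩ := hqs pt
  exact ⟨_, _, q, 𝟙 G, q ≫ π, v, AlgSp.IsAlgSpace.yon_obj U, hG, hq,
    Groth.Agent.H65.AlgStQC4.locP_smooth_id _, by rw [Category.comp_id], hv, h⟩

variable {P : MorphismProperty (AlgSp.Sp S)}

/-- a morphism all of whose base changes to schemes have `P` has `P` on a chart square -/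
theorem locQ_of_repByAlgSpWith (hP : AlgSp.IsSmoothLocalST P)
    (h𝒴 : IsAlgStack Scheme.fppfPrecoverage 𝒴) (f : 𝒳 ⥤ᵇ 𝒴) (hf : RepByAlgSpWith P f) :
    LocQ P f := by
  obtain ⟨V, y, hy₁, hy₂⟩ := h𝒴.atlas
  obtain ⟨F, e, he, hPF⟩ := hf V y
  obtain ⟨β⟩ := nonempty_iso_ofSpMap_spMapOfOver (BasedFunctor.comp e (FibCat.fpFst y f))
  let π : F.obj ⟶ (AlgSp.yon S).obj V := spMapOfOver (BasedFunctor.comp e (FibCat.fpFst y f))
  let x : ofSp F.obj ⥤ᵇ 𝒳 := BasedFunctor.comp e (FibCat.fpSnd y f)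
  let y₁ : ofSp (yonSpace V).obj ⥤ᵇ 𝒴 := BasedFunctor.comp (toOverCat V) y
  let k : F ⟶ yonSpace V := ObjectProperty.homMk π
  have e1 : BasedFunctor.comp x f ≅
      BasedFunctor.comp (BasedFunctor.comp e (FibCat.fpFst y f)) y :=
    bwlIso e (FibCat.fpIso y f).symm
  have e2 : BasedFunctor.comp (ofSpMap π) (toOverCat V) ≅
      BasedFunctor.comp e (FibCat.fpFst y f) := bwrIso β (toOverCat V)
  have e3 : BasedFunctor.comp (ofSpMap k.hom) y₁ ≅
      BasedFunctor.comp (BasedFunctor.comp e (FibCat.fpFst y f)) y := bwrIso e2 y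
  have hx : Sm x := rep_equiv_comp _ e he _ (repByAlgSpWith_fpSnd _ y f hy₁)
  have hxs : Sj x := rep_equiv_comp _ e he _ (repByAlgSpWith_fpSnd _ y f hy₂)
  have hy₁' : Sm y₁ := rep_equiv_comp _ (toOverCat V) (isEquivOver_toOverCat V) _ hy₁
  exact locQ_of_space_square hP f F (yonSpace V) x y₁ k (e1 ≪≫ e3.symm) hx hxs hy₁' hPF

/-- `P` on a chart square gives `P` for all base changes to schemes, for morphisms representable
by algebraic spaces -/
theorem repByAlgSpWith_of_locQ (hP : AlgSp.IsSmoothLocalST P) (hPb : StableBC P)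
    (hP₂ : AlgSp.IsLocalOnBase AlgSp.IsFppfCover P)
    (h𝒳 : IsAlgStack Scheme.fppfPrecoverage 𝒳) (h𝒴 : IsAlgStack Scheme.fppfPrecoverage 𝒴)
    (f : 𝒳 ⥤ᵇ 𝒴) (hf1 : RepByAlgSp1 f) (hf : LocQ P f) : RepByAlgSpWith P f := by
  obtain ⟨V, y, hy₁, hy₂⟩ := h𝒴.atlas
  obtain ⟨F, e, he⟩ := hf1 V y
  obtain ⟨β⟩ := nonempty_iso_ofSpMap_spMapOfOver (BasedFunctor.comp e (FibCat.fpFst y f))
  let π : F.obj ⟶ (AlgSp.yon S).obj V := spMapOfOver (BasedFunctor.comp e (FibCat.fpFst y f))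
  obtain ⟨U, q, hqE, hqS⟩ := F.property.atlas
  have hq_sm : AlgSp.LocP @Smooth q := Groth.Agent.H50.goodClass_smooth.locP_of_repWith_etale q hqE
  have hq_sj : AlgSp.IsSurjectiveMor q :=
    Groth.Agent.H49.points_surjective_of_repWith_surjective q hqS
  let ℓ : FibCat.overCat U ⥤ᵇ FibCat.fp f y :=
    BasedFunctor.comp (chartOf q) (BasedFunctor.comp e (fpSwap y f))
  have hℓ : Sm ℓ :=
    repByAlgSpWith_comp_equiv _ (chartOf q) _ (isEquivOver_comp he (isEquivOver_fpSwap y f))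
      (sm_chartOf F q hq_sm)
  obtain ⟨h, α, ⟨eK⟩, ⟨γ⟩⟩ := exists_square_of_lift f y ℓ
  have hPh : P ((AlgSp.yon S).map h) :=
    prop_of_locQ hP h𝒳.isStack.1 h𝒴.isStack.1 f hf _ y h α hy₁ (repByAlgSpWith_of_iso eK hℓ)
  have hh : (AlgSp.yon S).map h = q ≫ π := by
    apply chartOf_injective
    have γ' : BasedFunctor.comp (chartOf q) (BasedFunctor.comp e (FibCat.fpFst y f)) ≅
        ovMap h := γ
    have e1 : chartOf ((AlgSp.yon S).map h) ≅
        BasedFunctor.comp (chartOf q)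
          (BasedFunctor.comp (BasedFunctor.comp e (FibCat.fpFst y f)) (ofOverCat V)) :=
      bwrIso γ'.symm (ofOverCat V)
    exact e1 ≪≫ bwlIso (chartOf q) β.symm
  have hPπ : P π := by
    apply of_precomp_chart hP F.property (AlgSp.IsAlgSpace.yon_obj V) q π hq_sm hq_sj
    rw [← hh]
    exact hPh
  have h1 : RepByAlgSpWith P (ofSpMap π) :=
    repByAlgSpWith_ofSpMap hPb (ObjectProperty.homMk π : F ⟶ yonSpace V) hPπ
  have e2 : BasedFunctor.comp (ofSpMap π) (toOverCat V) ≅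
      BasedFunctor.comp e (FibCat.fpFst y f) := bwrIso β (toOverCat V)
  have h2 : RepByAlgSpWith P (FibCat.fpFst y f) :=
    repByAlgSpWith_of_square' P (FibCat.fpFst y f) (ofSpMap π) e (toOverCat V) he
      (isEquivOver_toOverCat V) e2 h1
  exact repByAlgSpWith_of_fpFst_fppf h𝒳.isStack.1 h𝒴.isStack.1 (isFibGrpd_overCat V) hPb hP₂ f hf1
    y (Groth.Agent.H64.Pts.repByAlgSpWith_flat_of_smooth y hy₁)
    (Groth.Agent.H64.Pts.repByAlgSpWith_lfp_of_smooth y hy₁) hy₂ h2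

end Groth.Agent.H64.LocQ
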