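import Groth.Agent.H64.LocQ.SmoothST
import Groth.Agent.H64.LocQ.Good
import Groth.Agent.H64.Pts.OpenImage
import Groth.Agent.H64.Pts.OpenMap
import Groth.Agent.H64.Pts.Atlas
import Groth.Agent.H64.Stk.FpFunct

set_option autoImplicit false
universe u
open CategoryTheory CategoryTheory.Limits AlgebraicGeometry Opposite

/-! The largest open substack on which a morphism of algebraic stacks is smooth. -/

namespace Groth.Agent.H64.LocQ

open AlgSt Groth.Agent.H32 Groth.Agent.H64 Groth.Agent.H64.Recog Groth.Agent.H64.FpRep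
  Groth.Agent.H64.PTh Groth.Agent.H64.Pts

section smLocus

variable {X Y : Scheme.{u}}

/-- the largest open subscheme on which a morphism of schemes is smooth -/
noncomputable def smLocus (k : X ⟶ Y) : X.Opens :=
  ⨆ W : {W : X.Opens // Smooth (W.ι ≫ k)}, W.1

theorem le_smLocus (k : X ⟶ Y) (W : X.Opens) (h : Smooth (W.ι ≫ k)) : W ≤ smLocus k :=
  le_iSup (fun W : {W : X.Opens // Smooth (W.ι ≫ k)} => W.1) ⟨W, h⟩

theorem smooth_smLocus (k : X ⟶ Y) : Smooth ((smLocus k).ι ≫ k) := by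
  have := HasRingHomProperty.instIsZariskiLocalAtSource (P := @Smooth.{u})
  unfold smLocus
  apply IsZariskiLocalAtSource.of_openCover (P := @Smooth)
    (Scheme.Opens.iSupOpenCover (fun W : {W : X.Opens // Smooth (W.ι ≫ k)} => W.1))
  intro W
  have h1 : (Scheme.Opens.iSupOpenCover (fun W : {W : X.Opens // Smooth (W.ι ≫ k)} => W.1)).f W ≫
      (⨆ W : {W : X.Opens // Smooth (W.ι ≫ k)}, W.1).ι = W.1.ι :=
    Scheme.homOfLE_ι X (le_iSup (fun W : {W : X.Opens // Smooth (W.ι ≫ k)} => W.1) W)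
  rw [← Category.assoc, h1]
  exact W.2

end smLocus

variable {S : Scheme.{u}}

/-- cancellation of a fully faithful functor -/
theorem sm_of_comp_ff {𝒜 ℬ 𝒞 : AlgSt.Cat S} (h𝒜 : FibCat.IsFibGrpd 𝒜.p)
    (hℬ : FibCat.IsFibGrpd ℬ.p) (h𝒞 : FibCat.IsFibGrpd 𝒞.p) (u : 𝒜 ⥤ᵇ ℬ) (v : ℬ ⥤ᵇ 𝒞)
    [v.toFunctor.Full] [v.toFunctor.Faithful] (h : Sm (BasedFunctor.comp u v)) : Sm u :=
  repByAlgSpWith_cancel h𝒜 hℬ h𝒞 (stableBC_locP Groth.Agent.H50.goodClass_smooth)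
    (fun _ _ _ _ hY' _ a b ha hb => Groth.Agent.H50.goodClass_smooth.locP_comp hY' a b ha hb)
    isLocalOnBase_fppf_smooth u v h
    (Groth.Agent.H65.AlgStEquivP.repByAlgSpWith_of_isEquivOver _ smooth_id _
      (isEquivOver_diag_of_fullyFaithful v))

/-- the inclusion of an open subscheme is smooth -/
theorem sm_overMap_opIncl {U : Over S} (W : U.left.Opens) : Sm (AlgSt.overMap (opIncl W)) :=
  repByAlgSpWith_overMap _ (stableBC_locP Groth.Agent.H50.goodClass_smooth) (opIncl W)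
    (Groth.Agent.H50.goodClass_smooth.locP_yon_map (opIncl W)
      (show Smooth W.ι from inferInstance))

theorem cancel_aux {D : Type*} [Category D] {A B C : D} (a : A ⟶ B) (b : B ⟶ C) (c : C ⟶ B)
    (hbc : b ≫ c = 𝟙 B) : 𝟙 A ≫ a = (𝟙 A ≫ (a ≫ b) ≫ 𝟙 C) ≫ c := by
  simp [hbc]

section main

variable {𝒳 𝒴 : AlgSt.Cat S}

/-- the restriction of a chart to an open subscheme -/
noncomputable abbrev resChart {U : Over S} (W : U.left.Opens) (x : FibCat.overCat U ⥤ᵇ 𝒳) :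
    FibCat.overCat (opOver W) ⥤ᵇ 𝒳 :=
  BasedFunctor.comp (AlgSt.overMap (opIncl W)) x

theorem sm_resChart {U : Over S} (W : U.left.Opens) (x : FibCat.overCat U ⥤ᵇ 𝒳) (hx : Sm x) :
    Sm (resChart W x) :=
  sm_comp (isFibGrpd_overCat _) (isFibGrpd_overCat _) _ _ (sm_overMap_opIncl W) hx

theorem range_map_resChart {U : Over S} (W : U.left.Opens) (x : FibCat.overCat U ⥤ᵇ 𝒳) :
    Set.range (Points.map (resChart W x)) = Points.ofChart x '' (W : Set ↥U.left) := by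
  ext ξ
  constructor
  · rintro ⟨η, rfl⟩
    obtain ⟨w, rfl⟩ := (ptU_bijective (opOver W)).2 η
    refine ⟨W.ι w, w.2, ?_⟩
    rw [← ofChart_eq, ofChart_overMap_comp]
    rfl
  · rintro ⟨u, hu, rfl⟩
    let w : ↥(opOver W).left := (⟨u, hu⟩ : ↥W)
    refine ⟨ptU (opOver W) w, ?_⟩
    rw [← ofChart_eq, ofChart_overMap_comp]
    rfl

/-- the restriction of a chart square to an open subscheme of the source chart -/
noncomputable def resIso (f : 𝒳 ⥤ᵇ 𝒴) {U V : Over S} (W : U.left.Opens)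
    (x : FibCat.overCat U ⥤ᵇ 𝒳) (y : FibCat.overCat V ⥤ᵇ 𝒴) (h : U ⟶ V)
    (α : BasedFunctor.comp x f ≅ BasedFunctor.comp (AlgSt.overMap h) y) :
    BasedFunctor.comp (resChart W x) f ≅ BasedFunctor.comp (AlgSt.overMap (opIncl W ≫ h)) y :=
  bwlIso (AlgSt.overMap (opIncl W)) α ≪≫ bwrIso (ovMapCompIso (opIncl W) h) y

/-- the predicate of the smooth locus of `f`, read on a chart square -/
noncomputable def smSub {U V : Over S} (x : FibCat.overCat U ⥤ᵇ 𝒳) (h : U ⟶ V) : 𝒳.obj → Prop :=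
  ofSet (Set.range (Points.map (resChart (smLocus h.left) x)))

theorem isOpenSubstack_smSub (h𝒳 : IsAlgStack Scheme.fppfPrecoverage 𝒳) {U V : Over S}
    (x : FibCat.overCat U ⥤ᵇ 𝒳) (hx : Sm x) (h : U ⟶ V) :
    IsOpenSubstack 𝒳 (smSub x h) Scheme.fppfPrecoverage := by
  apply isOpenSubstack_ofSet h𝒳
  rw [range_map_resChart]
  exact isOpenMap_ofChart_of_smooth h𝒳.isStack.1 x hx _ (smLocus h.left).2

theorem locQ_smSub (h𝒳 : IsAlgStack Scheme.fppfPrecoverage 𝒳) (f : 𝒳 ⥤ᵇ 𝒴) {U V : Over S}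
    (x : FibCat.overCat U ⥤ᵇ 𝒳) (y : FibCat.overCat V ⥤ᵇ 𝒴) (h : U ⟶ V)
    (α : BasedFunctor.comp x f ≅ BasedFunctor.comp (AlgSt.overMap h) y) (hx : Sm x) (hy : Sm y) :
    LocQ (AlgSp.LocP @Smooth) (BasedFunctor.comp (AlgSt.subIncl 𝒳 (smSub x h)) f) := by
  have hX := h𝒳.isStack.1
  have hW := isFibGrpd_overCat (opOver (smLocus h.left))
  let v := resChart (smLocus h.left) x
  have hv : Sm v := sm_resChart _ x hx
  have hY : FibCat.IsFibGrpd (AlgSt.fullSub 𝒳 (smSub x h)).p := isFibGrpd_fullSub_ofSet hX _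
  let g := corestrict hW hX v
  have hg : Sm g := sm_of_comp_ff hW hY hX g (AlgSt.subIncl 𝒳 _) hv
  have hgs : Sj g :=
    (isSurjective_iff_repByAlgSpWith hW hY g (RepByAlgSpWith.repByAlgSp1 hg)).mp
      (isSurjective_corestrict hW hX v)
  refine ⟨opOver (smLocus h.left), V, g, y, opIncl (smLocus h.left) ≫ h,
    resIso f (smLocus h.left) x y h α, hg, hgs, hy, ?_⟩
  exact Groth.Agent.H50.goodClass_smooth.locP_yon_map _ (smooth_smLocus h.left)

/-- objects of the restriction of a chart to the preimage of an open substack lie in it -/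
theorem prop_resChart_obj (h𝒳 : IsAlgStack Scheme.fppfPrecoverage 𝒳) {U : Over S}
    (x : FibCat.overCat U ⥤ᵇ 𝒳) (Q' : 𝒳.obj → Prop)
    (hQ' : IsOpenSubstack 𝒳 Q' Scheme.fppfPrecoverage) (W' : U.left.Opens)
    (hW' : ∀ u ∈ W', Points.ofChart x u ∈ Set.range (Points.map (AlgSt.subIncl 𝒳 Q')))
    (c : (FibCat.overCat (opOver W')).obj) : Q' ((resChart W' x).obj c) := by
  rw [prop_iff_ofSet_range h𝒳.isStack.1 Q' hQ']
  refine (ofSet_obj_iff h𝒳.isStack.1 _ x ((AlgSt.overMap (opIncl W')).obj c)).mpr (fun t => ?_)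
  have h1 : ((AlgSt.overMap (opIncl W')).obj c).hom.left t = W'.ι (c.hom.left t) :=
    Scheme.Hom.comp_apply c.hom.left W'.ι t
  rw [h1]
  exact hW' _ (c.hom.left t).2

/-- the chart-square theorem on an open substack: if `f` restricted to the open substack `Q'` has
`P` on charts, then on every chart square of `f` with smooth lift, the restriction of `h` to an
open of the source chart mapping into `Q'` has `P` -/
theorem prop_res_of_locQ_sub {P : MorphismProperty (AlgSp.Sp S)} (hP : AlgSp.IsSmoothLocalST P)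
    (h𝒳 : IsAlgStack Scheme.fppfPrecoverage 𝒳) (h𝒴 : IsAlgStack Scheme.fppfPrecoverage 𝒴)
    (f : 𝒳 ⥤ᵇ 𝒴) {U V : Over S}
    (x : FibCat.overCat U ⥤ᵇ 𝒳) (y : FibCat.overCat V ⥤ᵇ 𝒴) (h : U ⟶ V)
    (α : BasedFunctor.comp x f ≅ BasedFunctor.comp (AlgSt.overMap h) y) (hy : Sm y)
    (hℓ : Sm (FibCat.fpLift x (AlgSt.overMap h) α))
    (Q' : 𝒳.obj → Prop) (hQ' : IsOpenSubstack 𝒳 Q' Scheme.fppfPrecoverage)
    (hs : LocQ P (BasedFunctor.comp (AlgSt.subIncl 𝒳 Q') f))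
    (W' : U.left.Opens)
    (hW' : ∀ u ∈ W', Points.ofChart x u ∈ Set.range (Points.map (AlgSt.subIncl 𝒳 Q'))) :
    P ((AlgSp.yon S).map (opIncl W' ≫ h)) := by
  have hX := h𝒳.isStack.1
  have hYf := h𝒴.isStack.1
  have hQf : FibCat.IsFibGrpd (AlgSt.fullSub 𝒳 Q').p := hQ'.2.1.isStack.1
  have hWf := isFibGrpd_overCat (opOver W')
  have hVf := isFibGrpd_overCat V
  have hUf := isFibGrpd_overCat U
  -- the restricted chart of the open substack
  let x'' : FibCat.overCat (opOver W') ⥤ᵇ AlgSt.fullSub 𝒳 Q' :=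
    subLiftFunctor (Q := Q') (resChart W' x) (prop_resChart_obj h𝒳 x Q' hQ' W' hW')
  let α'' : BasedFunctor.comp x'' (BasedFunctor.comp (AlgSt.subIncl 𝒳 Q') f) ≅
      BasedFunctor.comp (AlgSt.overMap (opIncl W' ≫ h)) y := resIso f W' x y h α
  -- the comparison of the fibre products
  let j : FibCat.fp (BasedFunctor.comp (AlgSt.subIncl 𝒳 Q') f) y ⥤ᵇ FibCat.fp f y :=
    fpMap f y (BasedFunctor.comp (AlgSt.subIncl 𝒳 Q') f) y (AlgSt.subIncl 𝒳 Q')
      (BasedFunctor.id _) (BasedFunctor.id 𝒴) (Iso.refl _) (Iso.refl _)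
  have hidfull : (BasedFunctor.id (FibCat.overCat V)).toFunctor.Full :=
    (inferInstance : (𝟭 _).Full)
  have hidfaith : (BasedFunctor.id (FibCat.overCat V)).toFunctor.Faithful :=
    (inferInstance : (𝟭 _).Faithful)
  have hidfaith' : (BasedFunctor.id 𝒴).toFunctor.Faithful := (inferInstance : (𝟭 _).Faithful)
  have hjfull : j.toFunctor.Full := fpMap_full _ _ _ _ _ _ _ _ _
  have hjfaith : j.toFunctor.Faithful := fpMap_faithful _ _ _ _ _ _ _ _ _
  have hfp₁ : FibCat.IsFibGrpd (FibCat.fp (BasedFunctor.comp (AlgSt.subIncl 𝒳 Q') f) y).p :=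
    isFibGrpd_fp _ _ hQf hVf hYf
  have hfp₂ : FibCat.IsFibGrpd (FibCat.fp f y).p := isFibGrpd_fp _ _ hX hVf hYf
  let ℓ'' := FibCat.fpLift x'' (AlgSt.overMap (opIncl W' ≫ h)) α''
  have e : BasedFunctor.comp ℓ'' j ≅
      BasedFunctor.comp (AlgSt.overMap (opIncl W')) (FibCat.fpLift x (AlgSt.overMap h) α) :=
    fpFunctorIsoMk f y (Iso.refl _) (ovMapCompIso (opIncl W') h).symm (fun t => by
      show f.map (𝟙 _) ≫ bapp α.hom ((AlgSt.overMap (opIncl W')).obj t) =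
        (𝟙 _ ≫ (bapp α.hom ((AlgSt.overMap (opIncl W')).obj t) ≫
          y.map (bapp (ovMapCompIso (opIncl W') h).hom t)) ≫ 𝟙 _) ≫
          y.map (bapp (ovMapCompIso (opIncl W') h).inv t)
      rw [CategoryTheory.Functor.map_id]
      exact cancel_aux _ _ _ ((y.toFunctor.map_comp _ _).symm.trans
        ((congrArg y.toFunctor.map (bapp_iso_hom_inv _ t)).trans (y.toFunctor.map_id _))))
  have h1 : Sm (BasedFunctor.comp ℓ'' j) :=
    repByAlgSpWith_of_iso e (sm_comp hWf hUf _ _ (sm_overMap_opIncl W') hℓ)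
  have hℓ'' : Sm ℓ'' := sm_of_comp_ff hWf hfp₁ hfp₂ ℓ'' j h1
  exact prop_of_locQ hP hQf hYf _ hs x'' y (opIncl W' ≫ h) α'' hy hℓ''

/-- maximality of the smooth locus -/
theorem smSub_max (h𝒳 : IsAlgStack Scheme.fppfPrecoverage 𝒳)
    (h𝒴 : IsAlgStack Scheme.fppfPrecoverage 𝒴) (f : 𝒳 ⥤ᵇ 𝒴) {U V : Over S}
    (x : FibCat.overCat U ⥤ᵇ 𝒳) (y : FibCat.overCat V ⥤ᵇ 𝒴) (h : U ⟶ V)
    (α : BasedFunctor.comp x f ≅ BasedFunctor.comp (AlgSt.overMap h) y) (hx : Sm x) (hxs : Sj x)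
    (hy : Sm y) (hℓ : Sm (FibCat.fpLift x (AlgSt.overMap h) α))
    (Q' : 𝒳.obj → Prop) (hQ' : IsOpenSubstack 𝒳 Q' Scheme.fppfPrecoverage)
    (hs : LocQ (AlgSp.LocP @Smooth) (BasedFunctor.comp (AlgSt.subIncl 𝒳 Q') f)) :
    ∀ a, Q' a → smSub x h a := by
  have hX := h𝒳.isStack.1
  have hQ := isOpenSubstack_smSub h𝒳 x hx h
  rw [(isOpenSubstack_bijOn h𝒳).2 Q' (smSub x h) hQ' hQ]
  have hT' : IsOpen (Set.range (Points.map (AlgSt.subIncl 𝒳 Q'))) := isOpen_range_subIncl hX Q' hQ'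
  let W' : U.left.Opens :=
    ⟨Points.ofChart x ⁻¹' Set.range (Points.map (AlgSt.subIncl 𝒳 Q')),
      hT'.preimage (continuous_ofChart h𝒳 x)⟩
  have hW' : ∀ u ∈ W', Points.ofChart x u ∈ Set.range (Points.map (AlgSt.subIncl 𝒳 Q')) :=
    fun u hu => hu
  have h1 : AlgSp.LocP @Smooth ((AlgSp.yon S).map (opIncl W' ≫ h)) :=
    prop_res_of_locQ_sub isSmoothLocalST_smooth h𝒳 h𝒴 f x y h α hy hℓ Q' hQ' hs W' hW'
  have h2 : Smooth (W'.ι ≫ h.left) := AlgSp.locP_yon_map h1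
  have h3 : W' ≤ smLocus h.left := le_smLocus h.left W' h2
  intro ξ hξ
  obtain ⟨u, rfl⟩ := surjective_ofChart hX x hxs ξ
  have hu : u ∈ W' := hξ
  show _ ∈ Set.range (Points.map (AlgSt.subIncl 𝒳 (ofSet _)))
  rw [range_map_subIncl_ofSet, range_map_resChart]
  exact ⟨u, h3 hu, rfl⟩

/-- there is a largest open substack on which a morphism of algebraic stacks is smooth -/
theorem exists_largest_smooth (h𝒳 : IsAlgStack Scheme.fppfPrecoverage 𝒳)
    (h𝒴 : IsAlgStack Scheme.fppfPrecoverage 𝒴) (f : 𝒳 ⥤ᵇ 𝒴) :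
    ∃ Q : 𝒳.obj → Prop, IsOpenSubstack 𝒳 Q Scheme.fppfPrecoverage ∧
      LocQ (AlgSp.LocP @Smooth) (BasedFunctor.comp (AlgSt.subIncl 𝒳 Q) f) ∧
      ∀ Q' : 𝒳.obj → Prop, IsOpenSubstack 𝒳 Q' Scheme.fppfPrecoverage →
        LocQ (AlgSp.LocP @Smooth) (BasedFunctor.comp (AlgSt.subIncl 𝒳 Q') f) → ∀ a, Q' a → Q a := by
  obtain ⟨U, V, x, y, h, α, hx, hxs, hy, -, hℓ, -⟩ := exists_good_square h𝒳 h𝒴 f
  exact ⟨smSub x h, isOpenSubstack_smSub h𝒳 x hx h, locQ_smSub h𝒳 f x y h α hx hy,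
    fun Q' hQ' hs => smSub_max h𝒳 h𝒴 f x y h α hx hxs hy hℓ Q' hQ' hs⟩

end main

end Groth.Agent.H64.LocQ
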