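import Groth.Agent.H64.LocQ.CoreBC
import Groth.Agent.S10553
import Groth.Agent.S10567

set_option autoImplicit false
universe u
open CategoryTheory CategoryTheory.Limits AlgebraicGeometry Opposite

/-! Smoothness of morphisms of algebraic spaces is smooth local on the source-and-target. -/

namespace Groth.Agent.H64.LocQ

open AlgSt Groth.Agent.H32 Groth.Agent.H64 Groth.Agent.H64.Recog Groth.Agent.H64.FpRep
  Groth.Agent.H64.PTh

variable {S : Scheme.{u}}

theorem smooth_le_flat : (@Smooth : MorphismProperty Scheme.{u}) ≤ @Flat :=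
  fun _ _ g hg => by
    have : Smooth g := hg
    exact (inferInstance : Flat g)

theorem smooth_le_lfp : (@Smooth : MorphismProperty Scheme.{u}) ≤ @LocallyOfFinitePresentation :=
  fun _ _ g hg => by
    have : Smooth g := hg
    exact (inferInstance : LocallyOfFinitePresentation g)

/-- a smooth covering is an fppf covering -/
theorem isFppfCover_of_isSmCover {ι : Type u} {X : AlgSp.Sp S} (Y : ι → AlgSp.Sp S)
    (g : ∀ i, Y i ⟶ X) (h : AlgSp.IsSmCover Y g) : AlgSp.IsFppfCover Y g :=
  ⟨fun i => ⟨PTh.locP_mono smooth_le_flat _ (h.1 i), PTh.locP_mono smooth_le_lfp _ (h.1 i)⟩, h.2⟩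

theorem isLocalOnBase_sm_of_fppf {P : MorphismProperty (AlgSp.Sp S)}
    (hP : AlgSp.IsLocalOnBase (AlgSp.IsFppfCover (S := S)) P) :
    AlgSp.IsLocalOnBase (AlgSp.IsSmCover (S := S)) P :=
  fun _ _ Yi g hY hYi hcov _ f hX Xi p q hXi sq =>
    hP Yi g hY hYi (isFppfCover_of_isSmCover Yi g hcov) f hX Xi p q hXi sq

/-- smoothness is smooth local on the source-and-target -/
theorem isSmoothLocalST_smooth : AlgSp.IsSmoothLocalST (AlgSp.LocP (S := S) @Smooth) :=
  Groth.Agent.S10567.result _ (Groth.Agent.S10553.result S)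
    (isLocalOnBase_sm_of_fppf isLocalOnBase_fppf_smooth)
    (fun _ Y _ f g hf hg => Groth.Agent.H50.goodClass_smooth.locP_comp Y.property f.hom g.hom hf hg)

end Groth.Agent.H64.LocQ
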