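import Groth.Agent.H64.LocQ.Good
import Groth.Agent.H64.Psh.DiagIff

set_option autoImplicit false
universe u
open CategoryTheory CategoryTheory.Limits AlgebraicGeometry Opposite

/-! Chart squares with charts from algebraic spaces. -/

namespace Groth.Agent.H64.LocQ

open AlgSt Groth.Agent.H32 Groth.Agent.H64 Groth.Agent.H64.Recog Groth.Agent.H64.FpRep
  Groth.Agent.H64.PTh

variable {S : Scheme.{u}}

/-- the chart `(Sch/W) ⟶ F` of a map `h_W ⟶ F` of sheaves -/
noncomputable def chartOf {F : AlgSp.Sp S} {W : Over S} (p : (AlgSp.yon S).obj W ⟶ F) :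
    FibCat.overCat W ⥤ᵇ ofSp F :=
  BasedFunctor.comp (ofOverCat W) (ofSpMap p)

theorem chartOf_comp {F G : AlgSp.Sp S} {W : Over S} (p : (AlgSp.yon S).obj W ⟶ F) (a : F ⟶ G) :
    chartOf (p ≫ a) = BasedFunctor.comp (chartOf p) (ofSpMap a) := rfl

theorem chartOf_yon_map {W U : Over S} (k : W ⟶ U) :
    chartOf ((AlgSp.yon S).map k) = BasedFunctor.comp (AlgSt.overMap k) (ofOverCat U) := rfl

/-- every chart of the category of a sheaf comes from a map of sheaves -/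
theorem exists_iso_chartOf {F : AlgSp.Sp S} {W : Over S} (x : FibCat.overCat W ⥤ᵇ ofSp F) :
    ∃ p : (AlgSp.yon S).obj W ⟶ F, Nonempty (x ≅ chartOf p) := by
  let x' : ofSp ((AlgSp.yon S).obj W) ⥤ᵇ ofSp F := BasedFunctor.comp (toOverCat W) x
  let p : (AlgSp.yon S).obj W ⟶ F := ObjectProperty.homMk (pshMapOf x')
  obtain ⟨β⟩ : Nonempty (ofSpMap p ≅ x') := nonempty_iso_ofPshMap x'
  exact ⟨p, ⟨(bwlIso (ofOverCat W) β).symm⟩⟩

theorem rep_chartOf {Q : MorphismProperty (AlgSp.Sp S)} (hQb : StableBC Q) (F : AlgSp.Space S)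
    {W : Over S} (p : (AlgSp.yon S).obj W ⟶ F.obj) (hp : Q p) :
    RepByAlgSpWith Q (chartOf p) := by
  have h1 : RepByAlgSpWith Q (ofSpMap p) :=
    repByAlgSpWith_ofSpMap hQb (ObjectProperty.homMk p : yonSpace W ⟶ F) hp
  exact rep_equiv_comp Q (ofOverCat W) (isEquivOver_ofOverCat W) _ h1

theorem prop_of_rep_chartOf {Q : MorphismProperty (AlgSp.Sp S)} [Q.RespectsIso]
    (hQ : AlgSp.IsLocalOnBase AlgSp.IsFppfCover Q) (F : AlgSp.Space S)
    {W : Over S} (p : (AlgSp.yon S).obj W ⟶ F.obj) (h : RepByAlgSpWith Q (chartOf p)) : Q p := by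
  have h1 : RepByAlgSpWith Q (ofSpMap p) := by
    have := rep_equiv_comp Q (toOverCat W) (isEquivOver_toOverCat W) _ h
    exact this
  exact prop_of_repByAlgSpWith_ofSpMap hQ (ObjectProperty.homMk p : yonSpace W ⟶ F) h1

theorem sm_chartOf (F : AlgSp.Space S) {W : Over S} (p : (AlgSp.yon S).obj W ⟶ F.obj)
    (hp : AlgSp.LocP @Smooth p) : Sm (chartOf p) :=
  rep_chartOf (stableBC_locP Groth.Agent.H50.goodClass_smooth) F p hp

theorem sj_chartOf (F : AlgSp.Space S) {W : Over S} (p : (AlgSp.yon S).obj W ⟶ F.obj)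
    (hp : AlgSp.IsSurjectiveMor p) : Sj (chartOf p) :=
  rep_chartOf stableBC_surj F p hp

theorem locP_smooth_of_sm_chartOf (F : AlgSp.Space S) {W : Over S}
    (p : (AlgSp.yon S).obj W ⟶ F.obj) (h : Sm (chartOf p)) : AlgSp.LocP @Smooth p := by
  have := locP_respectsIso (S := S) @Smooth
  exact prop_of_rep_chartOf isLocalOnBase_fppf_smooth F p h

theorem surj_of_sj_chartOf (F : AlgSp.Space S) {W : Over S}
    (p : (AlgSp.yon S).obj W ⟶ F.obj) (h : Sj (chartOf p)) : AlgSp.IsSurjectiveMor p := by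
  have := isSurjectiveMor_respectsIso (S := S)
  exact prop_of_rep_chartOf isLocalOnBase_fppf_surj F p h

theorem chartOf_injective {F : AlgSp.Sp S} {W : Over S} {p p' : (AlgSp.yon S).obj W ⟶ F}
    (e : chartOf p ≅ chartOf p') : p = p' := by
  have e' : ofSpMap p ≅ ofSpMap p' := bwlIso (toOverCat W) e
  have h1 := pshMapOf_eq_of_iso e'
  have h2 : pshMapOf (ofSpMap p) = p.hom := pshMapOf_ofPshMap p.hom
  have h3 : pshMapOf (ofSpMap p') = p'.hom := pshMapOf_ofPshMap p'.hom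
  apply ObjectProperty.hom_ext
  rw [← h2, ← h3]
  exact h1

/-- a chart square with charts from algebraic spaces gives a chart square with charts from
schemes -/
theorem locQ_of_space_square {P : MorphismProperty (AlgSp.Sp S)} (hP : AlgSp.IsSmoothLocalST P)
    {𝒳 𝒴 : AlgSt.Cat S} (f : 𝒳 ⥤ᵇ 𝒴)
    (A B : AlgSp.Space S) (x : ofSp A.obj ⥤ᵇ 𝒳) (y : ofSp B.obj ⥤ᵇ 𝒴) (k : A ⟶ B)
    (α : BasedFunctor.comp x f ≅ BasedFunctor.comp (ofSpMap k.hom) y)
    (hx : Sm x) (hxs : Sj x) (hy : Sm y) (hk : P k.hom) : LocQ P f := by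
  obtain ⟨V, p, hpE, hpS⟩ := B.property.atlas
  have sq := IsPullback.of_hasPullback k.hom p
  have hX' : AlgSp.IsAlgSpace (pullback k.hom p) :=
    Groth.Agent.H49.isAlgSpace_of_isPullback sq B.property.diag A.property
      (AlgSp.IsAlgSpace.yon_obj V)
  obtain ⟨U, q, hqE, hqS⟩ := hX'.atlas
  let h₀ : U ⟶ V := (AlgSp.yon S).preimage (q ≫ pullback.snd k.hom p)
  have hh₀ : (AlgSp.yon S).map h₀ = q ≫ pullback.snd k.hom p := Functor.map_preimage _ _
  have hp_sm : AlgSp.LocP @Smooth p := Groth.Agent.H50.goodClass_smooth.locP_of_repWith_etale p hpE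
  have hq_sm : AlgSp.LocP @Smooth q := Groth.Agent.H50.goodClass_smooth.locP_of_repWith_etale q hqE
  have hp_sj : AlgSp.IsSurjectiveMor p :=
    Groth.Agent.H49.points_surjective_of_repWith_surjective p hpS
  have hq_sj : AlgSp.IsSurjectiveMor q :=
    Groth.Agent.H49.points_surjective_of_repWith_surjective q hqS
  have hsnd : P (pullback.snd k.hom p) :=
    hP.baseChange A.property B.property hX' (AlgSp.IsAlgSpace.yon_obj V) k.hom p _ _ sq hp_sm hk
  have hPh : P ((AlgSp.yon S).map h₀) := by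
    rw [hh₀]
    exact hP.precomp (AlgSp.IsAlgSpace.yon_obj U) hX' (AlgSp.IsAlgSpace.yon_obj V) q _ hq_sm hsnd
  have hfst_sm : AlgSp.LocP @Smooth (pullback.fst k.hom p) :=
    stableBC_locP Groth.Agent.H50.goodClass_smooth (AlgSp.IsAlgSpace.yon_obj V) B.property hX'
      A.property p k.hom _ _ sq.flip hp_sm
  have hfst_sj : AlgSp.IsSurjectiveMor (pullback.fst k.hom p) :=
    stableBC_surj (AlgSp.IsAlgSpace.yon_obj V) B.property hX' A.property p k.hom _ _ sq.flip hp_sj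
  let a₀ : (AlgSp.yon S).obj U ⟶ A.obj := q ≫ pullback.fst k.hom p
  have ha₀_sm : AlgSp.LocP @Smooth a₀ :=
    Groth.Agent.H50.goodClass_smooth.locP_comp hX' q _ hq_sm hfst_sm
  have ha₀_sj : AlgSp.IsSurjectiveMor a₀ := Groth.Agent.H49.isSurjectiveMor_comp hq_sj hfst_sj
  have heq : a₀ ≫ k.hom = (AlgSp.yon S).map h₀ ≫ p := by
    rw [hh₀, Category.assoc, Category.assoc, pullback.condition]
  have hU := isFibGrpd_overCat U
  have hV := isFibGrpd_overCat V
  have hA : FibCat.IsFibGrpd (ofSp A.obj).p := Stk.isFibGrpd_ofPsh _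
  have hB : FibCat.IsFibGrpd (ofSp B.obj).p := Stk.isFibGrpd_ofPsh _
  let x' : FibCat.overCat U ⥤ᵇ 𝒳 := BasedFunctor.comp (chartOf a₀) x
  let y' : FibCat.overCat V ⥤ᵇ 𝒴 := BasedFunctor.comp (chartOf p) y
  have h1 : BasedFunctor.comp (chartOf a₀) (BasedFunctor.comp (ofSpMap k.hom) y) =
      BasedFunctor.comp (AlgSt.overMap h₀) y' := by
    show BasedFunctor.comp (chartOf (a₀ ≫ k.hom)) y = _
    rw [heq]
    rfl
  let α' : BasedFunctor.comp x' f ≅ BasedFunctor.comp (AlgSt.overMap h₀) y' :=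
    bwlIso (chartOf a₀) α ≪≫ eqToIso h1
  exact ⟨U, V, x', y', h₀, α', sm_comp hU hA _ x (sm_chartOf A a₀ ha₀_sm) hx,
    sj_comp hU hA _ x (sj_chartOf A a₀ ha₀_sj) hxs,
    sm_comp hV hB _ y (sm_chartOf B p hp_sm) hy, hPh⟩

/-- for a morphism of algebraic spaces, `P` read on one chart square of the associated functor is
`P` -/
theorem locQ_ofSpMap_iff {P : MorphismProperty (AlgSp.Sp S)} (hP : AlgSp.IsSmoothLocalST P)
    (F G : AlgSp.Space S) (a : F ⟶ G) : LocQ P (ofSpMap a.hom) ↔ P a.hom := by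
  constructor
  · rintro ⟨U, V, x, y, h, α, hx, hxs, hy, hPh⟩
    obtain ⟨x₀, ⟨ex⟩⟩ := exists_iso_chartOf x
    obtain ⟨y₀, ⟨ey⟩⟩ := exists_iso_chartOf y
    have hx₀ : AlgSp.LocP @Smooth x₀ :=
      locP_smooth_of_sm_chartOf F x₀ (repByAlgSpWith_of_iso ex.symm hx)
    have hx₀s : AlgSp.IsSurjectiveMor x₀ :=
      surj_of_sj_chartOf F x₀ (repByAlgSpWith_of_iso ex.symm hxs)
    have hy₀ : AlgSp.LocP @Smooth y₀ :=
      locP_smooth_of_sm_chartOf G y₀ (repByAlgSpWith_of_iso ey.symm hy)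
    have hcomm : x₀ ≫ a.hom = (AlgSp.yon S).map h ≫ y₀ := by
      apply chartOf_injective
      have e1 : chartOf (x₀ ≫ a.hom) ≅ BasedFunctor.comp x (ofSpMap a.hom) :=
        bwrIso ex.symm (ofSpMap a.hom)
      have e2 : BasedFunctor.comp (AlgSt.overMap h) y ≅ chartOf ((AlgSp.yon S).map h ≫ y₀) :=
        bwlIso (AlgSt.overMap h) ey
      exact e1 ≪≫ α ≪≫ e2
    refine (hP.locality F.property G.property a.hom).2 fun pt => ?_
    obtain ⟨v, hv⟩ := hx₀s pt
    exact ⟨_, _, x₀, y₀, (AlgSp.yon S).map h, v, AlgSp.IsAlgSpace.yon_obj U,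
      AlgSp.IsAlgSpace.yon_obj V, hx₀, hy₀, hcomm, hv, hPh⟩
  · intro hPa
    have e : BasedFunctor.comp (BasedFunctor.id (ofSp F.obj)) (ofSpMap a.hom) ≅
        BasedFunctor.comp (ofSpMap a.hom) (BasedFunctor.id (ofSp G.obj)) := Iso.refl _
    exact locQ_of_space_square hP (ofSpMap a.hom) F G (BasedFunctor.id _) (BasedFunctor.id _) a e
      (sm_of_isEquivOver _ (isEquivOver_id _)) (sj_of_isEquivOver _ (isEquivOver_id _))
      (sm_of_isEquivOver _ (isEquivOver_id _)) hPa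

/-- `P` read on one square of scheme charts is `P` read on one square of charts from algebraic
spaces -/
theorem locQ_iff_space_square {P : MorphismProperty (AlgSp.Sp S)} (hP : AlgSp.IsSmoothLocalST P)
    {𝒳 𝒴 : AlgSt.Cat S} (f : 𝒳 ⥤ᵇ 𝒴) :
    LocQ P f ↔
      ∃ (U V : AlgSp.Space S) (x : ofSp U.obj ⥤ᵇ 𝒳) (y : ofSp V.obj ⥤ᵇ 𝒴) (h : U ⟶ V)
        (_ : BasedFunctor.comp x f ≅ BasedFunctor.comp (ofSpMap h.hom) y),
        Sm x ∧ Sj x ∧ Sm y ∧ P h.hom := by
  constructor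
  · rintro ⟨U, V, x, y, h, α, hx, hxs, hy, hPh⟩
    let α' : BasedFunctor.comp (BasedFunctor.comp (toOverCat U) x) f ≅
        BasedFunctor.comp (ofSpMap ((AlgSp.yon S).map h)) (BasedFunctor.comp (toOverCat V) y) :=
      bwlIso (toOverCat U) α
    exact ⟨yonSpace U, yonSpace V, BasedFunctor.comp (toOverCat U) x,
      BasedFunctor.comp (toOverCat V) y,
      (ObjectProperty.homMk ((AlgSp.yon S).map h) : yonSpace U ⟶ yonSpace V), α',
      rep_equiv_comp _ _ (isEquivOver_toOverCat U) x hx,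
      rep_equiv_comp _ _ (isEquivOver_toOverCat U) x hxs,
      rep_equiv_comp _ _ (isEquivOver_toOverCat V) y hy, hPh⟩
  · rintro ⟨U, V, x, y, h, α, hx, hxs, hy, hPh⟩
    exact locQ_of_space_square hP f U V x y h α hx hxs hy hPh

end Groth.Agent.H64.LocQ
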