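import Groth.Agent.H64.LocQ.SmoothLocus

set_option autoImplicit false
universe u
open CategoryTheory CategoryTheory.Limits AlgebraicGeometry Opposite

/-! `LocQ P` and open substacks: cancellation of fully faithful smooth functors, descent along
smooth surjective morphisms on the source, inverse images of open substacks. -/

namespace Groth.Agent.H64.LocQ

open AlgSt Groth.Agent.H32 Groth.Agent.H64 Groth.Agent.H64.Recog Groth.Agent.H64.FpRep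
  Groth.Agent.H64.PTh Groth.Agent.H64.Pts

variable {S : Scheme.{u}}

theorem cancel_aux₂ {D : Type*} [Category D] {A B : D} (b : A ⟶ B) :
    𝟙 A ≫ (𝟙 A ≫ b ≫ 𝟙 B) = b ≫ 𝟙 B := by
  simp

/-- an open immersion is smooth -/
theorem sm_of_isOpenImm {𝒳 𝒴 : AlgSt.Cat S} (f : 𝒴 ⥤ᵇ 𝒳) (hf : IsOpenImm f) : Sm f :=
  repByAlgSpWith_mono_space (fun _ _ a ha =>
    Groth.Agent.H50.goodClass_smooth.locP_of_repWith_etale a.hom
      (Groth.Agent.H49.repWith_of_le openImm_le_flat ha)) f hf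

/-- cancellation of a fully faithful smooth functor -/
theorem locQ_cancel_ff {P : MorphismProperty (AlgSp.Sp S)} (hP : AlgSp.IsSmoothLocalST P)
    {𝒜 ℬ 𝒞 : AlgSt.Cat S} (h𝒜 : IsAlgStack Scheme.fppfPrecoverage 𝒜)
    (hℬ : IsAlgStack Scheme.fppfPrecoverage ℬ) (h𝒞 : FibCat.IsFibGrpd 𝒞.p)
    (φ : 𝒜 ⥤ᵇ ℬ) (i : ℬ ⥤ᵇ 𝒞) [i.toFunctor.Full] [i.toFunctor.Faithful] (hi : Sm i)
    (h : LocQ P (BasedFunctor.comp φ i)) : LocQ P φ := by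
  obtain ⟨U, V, x, y, k, β, hx, hxs, hy, -, hℓ, -⟩ := exists_good_square h𝒜 hℬ φ
  have hU := isFibGrpd_overCat U
  have hV := isFibGrpd_overCat V
  let β' : BasedFunctor.comp x (BasedFunctor.comp φ i) ≅
      BasedFunctor.comp (AlgSt.overMap k) (BasedFunctor.comp y i) := bwrIso β i
  let E : FibCat.fp φ y ⥤ᵇ FibCat.fp (BasedFunctor.comp φ i) (BasedFunctor.comp y i) :=
    fpMap (BasedFunctor.comp φ i) (BasedFunctor.comp y i) φ y (BasedFunctor.id 𝒜)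
      (BasedFunctor.id _) i (Iso.refl _) (Iso.refl _)
  have hE : FibCat.IsEquivOver E := isEquivOver_fpMap _ _ _ _ _ _ _ _ _ (isEquivOver_id _)
    (isEquivOver_id _)
  have hfp : FibCat.IsFibGrpd (FibCat.fp φ y).p := isFibGrpd_fp _ _ h𝒜.isStack.1 hV hℬ.isStack.1
  have e : FibCat.fpLift x (AlgSt.overMap k) β' ≅
      BasedFunctor.comp (FibCat.fpLift x (AlgSt.overMap k) β) E :=
    fpFunctorIsoMk (BasedFunctor.comp φ i) (BasedFunctor.comp y i) (Iso.refl _) (Iso.refl _)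
      (fun t => by
        show (BasedFunctor.comp φ i).map (𝟙 _) ≫ (𝟙 _ ≫ i.map (bapp β.hom t) ≫ 𝟙 _) =
          i.map (bapp β.hom t) ≫ (BasedFunctor.comp y i).map (𝟙 _)
        rw [CategoryTheory.Functor.map_id, CategoryTheory.Functor.map_id]
        exact cancel_aux₂ _)
  have hℓ' : Sm (FibCat.fpLift x (AlgSt.overMap k) β') :=
    repByAlgSpWith_of_iso e (sm_comp hU hfp _ _ hℓ (sm_of_isEquivOver E hE))
  have hPk : P ((AlgSp.yon S).map k) :=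
    prop_of_locQ hP h𝒜.isStack.1 h𝒞 _ h x (BasedFunctor.comp y i) k β'
      (sm_comp hV hℬ.isStack.1 y i hy hi) hℓ'
  exact ⟨U, V, x, y, k, β, hx, hxs, hy, hPk⟩

/-- smooth (on charts) morphisms from a scheme to an algebraic stack are smooth in the
representable sense -/
theorem sm_of_locQ_chart {ℬ : AlgSt.Cat S} (hℬ : IsAlgStack Scheme.fppfPrecoverage ℬ)
    {U : Over S} (z : FibCat.overCat U ⥤ᵇ ℬ) (hz : LocQ (AlgSp.LocP @Smooth) z) : Sm z :=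
  repByAlgSpWith_of_locQ isSmoothLocalST_smooth (stableBC_locP Groth.Agent.H50.goodClass_smooth)
    isLocalOnBase_fppf_smooth (Groth.Agent.H65.AlgStQC5.isAlgStack_overCat U) hℬ z
    ((repByAlgSp1_diag_iff.mp hℬ.diag) U z) hz

theorem locQ_smooth_comp {𝒜 ℬ 𝒞 : AlgSt.Cat S} (h𝒜 : IsAlgStack Scheme.fppfPrecoverage 𝒜)
    (hℬ : IsAlgStack Scheme.fppfPrecoverage ℬ) (h𝒞 : IsAlgStack Scheme.fppfPrecoverage 𝒞)
    (f : 𝒜 ⥤ᵇ ℬ) (g : ℬ ⥤ᵇ 𝒞) (hf : LocQ (AlgSp.LocP @Smooth) f)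
    (hg : LocQ (AlgSp.LocP @Smooth) g) : LocQ (AlgSp.LocP @Smooth) (BasedFunctor.comp f g) :=
  locQ_comp isSmoothLocalST_smooth
    (fun _ _ _ _ hY' _ a b ha hb => Groth.Agent.H50.goodClass_smooth.locP_comp hY' a b ha hb)
    h𝒜 hℬ h𝒞 f g hf hg

/-- descent of `LocQ P` along a smooth surjective morphism on the source -/
theorem locQ_of_precomp_smooth_surj {P : MorphismProperty (AlgSp.Sp S)}
    {𝒜 ℬ 𝒴 : AlgSt.Cat S} (h𝒜 : IsAlgStack Scheme.fppfPrecoverage 𝒜)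
    (hℬ : IsAlgStack Scheme.fppfPrecoverage ℬ) (g₁ : 𝒜 ⥤ᵇ ℬ)
    (hg : LocQ (AlgSp.LocP @Smooth) g₁) (hgs : IsSurjective g₁) (ψ : ℬ ⥤ᵇ 𝒴)
    (h : LocQ P (BasedFunctor.comp g₁ ψ)) : LocQ P ψ := by
  obtain ⟨U₀, V₀, x₀, y₀, h₀, α₀, hx₀, hx₀s, hy₀, hP⟩ := h
  have hU₀ := isFibGrpd_overCat U₀
  have hrep : RepByAlgSp1 (BasedFunctor.comp x₀ g₁) := (repByAlgSp1_diag_iff.mp hℬ.diag) U₀ _
  have hl : LocQ (AlgSp.LocP @Smooth) (BasedFunctor.comp x₀ g₁) :=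
    locQ_smooth_comp (Groth.Agent.H65.AlgStQC5.isAlgStack_overCat U₀) h𝒜 hℬ x₀ g₁
      (locQ_of_repByAlgSpWith isSmoothLocalST_smooth h𝒜 x₀ hx₀) hg
  have hsm : Sm (BasedFunctor.comp x₀ g₁) := sm_of_locQ_chart hℬ _ hl
  have hx₀surj : IsSurjective x₀ :=
    (isSurjective_iff_repByAlgSpWith hU₀ h𝒜.isStack.1 x₀ (RepByAlgSpWith.repByAlgSp1 hx₀)).mpr hx₀s
  have hsurj : IsSurjective (BasedFunctor.comp x₀ g₁) := by
    intro ξ
    obtain ⟨η, rfl⟩ := hgs ξ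
    obtain ⟨ζ, rfl⟩ := hx₀surj η
    exact ⟨ζ, map_comp x₀ g₁ ζ⟩
  have hsj : Sj (BasedFunctor.comp x₀ g₁) :=
    (isSurjective_iff_repByAlgSpWith hU₀ hℬ.isStack.1 _ hrep).mp hsurj
  exact ⟨U₀, V₀, BasedFunctor.comp x₀ g₁, y₀, h₀, α₀, hsm, hsj, hy₀, hP⟩

/-- the image of a smooth (on charts) morphism is open -/
theorem isOpen_range_of_locQ_smooth {𝒜 ℬ : AlgSt.Cat S}
    (h𝒜 : IsAlgStack Scheme.fppfPrecoverage 𝒜) (hℬ : IsAlgStack Scheme.fppfPrecoverage ℬ)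
    (φ : 𝒜 ⥤ᵇ ℬ) (hφ : LocQ (AlgSp.LocP @Smooth) φ) : IsOpen (Set.range (Points.map φ)) := by
  obtain ⟨U, V, x, y, h, α, hx, hxs, hy, hh⟩ := hφ
  have hsm : Smooth h.left := AlgSp.locP_yon_map hh
  have hopen : IsOpenMap h.left := h.left.isOpenMap
  have h1 : Set.range (Points.map φ) = Points.ofChart y '' Set.range h.left := by
    ext ξ
    constructor
    · rintro ⟨η, rfl⟩
      obtain ⟨u, rfl⟩ := surjective_ofChart h𝒜.isStack.1 x hxs η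
      refine ⟨h.left u, ⟨u, rfl⟩, ?_⟩
      rw [← ofChart_overMap_comp, ← ofChart_eq_of_hom α.hom u]
      rfl
    · rintro ⟨_, ⟨u, rfl⟩, rfl⟩
      refine ⟨Points.ofChart x u, ?_⟩
      rw [← ofChart_overMap_comp, ← ofChart_eq_of_hom α.hom u]
      rfl
  rw [h1]
  exact isOpenMap_ofChart_of_smooth hℬ.isStack.1 y hy _ hopen.isOpen_range

/-- the predicate of the inverse image of the substack of a set of points -/
theorem ofSet_preimage_iff {𝒳' 𝒳 : AlgSt.Cat S} (h𝒳' : FibCat.IsFibGrpd 𝒳'.p)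
    (h𝒳 : FibCat.IsFibGrpd 𝒳.p) (g : 𝒳' ⥤ᵇ 𝒳) (T : Set (Points 𝒳)) (a : 𝒳'.obj) :
    ofSet T (g.obj a) ↔ ofSet (Points.map g ⁻¹' T) a := by
  constructor
  · rintro h p' ⟨ψ⟩
    exact h (p'.map g) ⟨g.map ψ⟩
  · rintro h p ⟨φ⟩
    obtain ⟨t, ψ, e, he⟩ := exists_lift_obj h𝒳' h𝒳 g a p.obj φ
    have ht : 𝒳'.p.obj t = Over.mk p.str := by
      have h1 : 𝒳.p.obj (g.obj t) = 𝒳.p.obj p.obj := lift_domain_eq 𝒳.p he
      exact (g.w_obj t).symm.trans (h1.trans p.lies)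
    have h2 : Points.map g (Points.mk ⟨p.K, p.str, t, ht⟩) ∈ T := h ⟨p.K, p.str, t, ht⟩ ⟨ψ⟩
    have h3 : Points.map g (Points.mk ⟨p.K, p.str, t, ht⟩) = Points.mk p := by
      apply Points.sound
      exact ⟨_, 𝟙 _, e.hom, trivial⟩
    rwa [h3] at h2

/-- the inverse image of an open substack is an open substack -/
theorem isOpenSubstack_preimage {𝒳' 𝒳 : AlgSt.Cat S}
    (h𝒳' : IsAlgStack Scheme.fppfPrecoverage 𝒳') (h𝒳 : IsAlgStack Scheme.fppfPrecoverage 𝒳)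
    (g : 𝒳' ⥤ᵇ 𝒳) (Q : 𝒳.obj → Prop) (hQ : IsOpenSubstack 𝒳 Q Scheme.fppfPrecoverage) :
    IsOpenSubstack 𝒳' (fun a => Q (g.obj a)) Scheme.fppfPrecoverage := by
  have hfun : (fun a => Q (g.obj a)) =
      ofSet (Points.map g ⁻¹' Set.range (Points.map (AlgSt.subIncl 𝒳 Q))) :=
    funext fun a => propext ((prop_iff_ofSet_range h𝒳.isStack.1 Q hQ _).trans
      (ofSet_preimage_iff h𝒳'.isStack.1 h𝒳.isStack.1 g _ a))
  rw [hfun]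
  exact isOpenSubstack_ofSet h𝒳' _
    ((isOpen_range_subIncl h𝒳.isStack.1 Q hQ).preimage (continuous_map h𝒳 g))

/-- formation of the smooth locus commutes with smooth precomposition -/
theorem smooth_locus_precomp {𝒳' 𝒳 𝒴 : AlgSt.Cat S}
    (h𝒳' : IsAlgStack Scheme.fppfPrecoverage 𝒳') (h𝒳 : IsAlgStack Scheme.fppfPrecoverage 𝒳)
    (h𝒴 : IsAlgStack Scheme.fppfPrecoverage 𝒴)
    (g : 𝒳' ⥤ᵇ 𝒳) (hg : LocQ (AlgSp.LocP @Smooth) g) (f : 𝒳 ⥤ᵇ 𝒴)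
    (Q : 𝒳.obj → Prop) (hQ₁ : IsOpenSubstack 𝒳 Q Scheme.fppfPrecoverage)
    (hQ₂ : LocQ (AlgSp.LocP @Smooth) (BasedFunctor.comp (AlgSt.subIncl 𝒳 Q) f))
    (hQ₃ : ∀ Q' : 𝒳.obj → Prop, IsOpenSubstack 𝒳 Q' Scheme.fppfPrecoverage →
      LocQ (AlgSp.LocP @Smooth) (BasedFunctor.comp (AlgSt.subIncl 𝒳 Q') f) → ∀ a, Q' a → Q a) :
    IsOpenSubstack 𝒳' (fun a ↦ Q (g.obj a)) Scheme.fppfPrecoverage ∧
      LocQ (AlgSp.LocP @Smooth)
        (BasedFunctor.comp (AlgSt.subIncl 𝒳' (fun a ↦ Q (g.obj a))) (BasedFunctor.comp g f)) ∧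
      ∀ Q' : 𝒳'.obj → Prop, IsOpenSubstack 𝒳' Q' Scheme.fppfPrecoverage →
        LocQ (AlgSp.LocP @Smooth)
          (BasedFunctor.comp (AlgSt.subIncl 𝒳' Q') (BasedFunctor.comp g f)) →
        ∀ a, Q' a → Q (g.obj a) := by
  have hQ'' := isOpenSubstack_preimage h𝒳' h𝒳 g Q hQ₁
  refine ⟨hQ'', ?_, ?_⟩
  · let g'' : AlgSt.fullSub 𝒳' (fun a ↦ Q (g.obj a)) ⥤ᵇ AlgSt.fullSub 𝒳 Q :=
      subLiftFunctor (Q := Q) (BasedFunctor.comp (AlgSt.subIncl 𝒳' (fun a ↦ Q (g.obj a))) g)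
        (fun a => a.property)
    have h1 : LocQ (AlgSp.LocP @Smooth)
        (BasedFunctor.comp (AlgSt.subIncl 𝒳' (fun a ↦ Q (g.obj a))) g) :=
      locQ_smooth_comp hQ''.2.1 h𝒳' h𝒳 _ g
        (locQ_of_repByAlgSpWith isSmoothLocalST_smooth h𝒳' _ (sm_of_isOpenImm _ hQ''.2.2)) hg
    have h2 : LocQ (AlgSp.LocP @Smooth) g'' :=
      locQ_cancel_ff isSmoothLocalST_smooth hQ''.2.1 hQ₁.2.1 h𝒳.isStack.1 g'' (AlgSt.subIncl 𝒳 Q)
        (sm_of_isOpenImm _ hQ₁.2.2) h1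
    exact locQ_smooth_comp hQ''.2.1 hQ₁.2.1 h𝒴 g'' _ h2 hQ₂
  · intro Q' hQ' hs a ha
    have hQ'f : FibCat.IsFibGrpd (AlgSt.fullSub 𝒳' Q').p := hQ'.2.1.isStack.1
    have hX := h𝒳.isStack.1
    let v : AlgSt.fullSub 𝒳' Q' ⥤ᵇ 𝒳 := BasedFunctor.comp (AlgSt.subIncl 𝒳' Q') g
    have hv : LocQ (AlgSp.LocP @Smooth) v :=
      locQ_smooth_comp hQ'.2.1 h𝒳' h𝒳 _ g
        (locQ_of_repByAlgSpWith isSmoothLocalST_smooth h𝒳' _ (sm_of_isOpenImm _ hQ'.2.2)) hg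
    have hT₁ : IsOpen (Set.range (Points.map v)) := isOpen_range_of_locQ_smooth hQ'.2.1 h𝒳 v hv
    have hQ₁' := isOpenSubstack_ofSet h𝒳 _ hT₁
    let g₁ := corestrict hQ'f hX v
    have hg₁ : LocQ (AlgSp.LocP @Smooth) g₁ :=
      locQ_cancel_ff isSmoothLocalST_smooth hQ'.2.1 hQ₁'.2.1 hX g₁ (AlgSt.subIncl 𝒳 _)
        (sm_of_isOpenImm _ hQ₁'.2.2) hv
    have hg₁s : IsSurjective g₁ := isSurjective_corestrict hQ'f hX v
    have hψ : LocQ (AlgSp.LocP @Smooth)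
        (BasedFunctor.comp (AlgSt.subIncl 𝒳 (ofSet (Set.range (Points.map v)))) f) :=
      locQ_of_precomp_smooth_surj hQ'.2.1 hQ₁'.2.1 g₁ hg₁ hg₁s _ hs
    exact hQ₃ _ hQ₁' hψ (g.obj a) (ofSet_range_obj hQ'f hX v ⟨a, ha⟩)

end Groth.Agent.H64.LocQ
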