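import Groth.Agent.H64.Psh.SmoothLoc2
import Groth.Agent.H64.Psh.AlgStackRep
import Groth.Agent.H64.Psh.FpAlg
import Groth.Agent.H64.OverMapRep
import Groth.Agent.H64.Stk.FpPaste2
import Groth.Agent.H65.AlgStQC5

set_option autoImplicit false
universe u
open CategoryTheory CategoryTheory.Limits AlgebraicGeometry Opposite

/-! Tools for properties of morphisms of algebraic stacks read on smooth chart squares. -/

namespace Groth.Agent.H64.LocQ

open AlgSt Groth.Agent.H32 Groth.Agent.H64 Groth.Agent.H64.Recog Groth.Agent.H64.FpRep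
  Groth.Agent.H64.PTh

variable {S : Scheme.{u}}

/-- representable by algebraic spaces and smooth -/
abbrev Sm {𝒳 𝒴 : AlgSt.Cat S} (f : 𝒳 ⥤ᵇ 𝒴) : Prop := RepByAlgSpWith (AlgSp.LocP @Smooth) f

/-- representable by algebraic spaces and surjective -/
abbrev Sj {𝒳 𝒴 : AlgSt.Cat S} (f : 𝒳 ⥤ᵇ 𝒴) : Prop := RepByAlgSpWith AlgSp.IsSurjectiveMor f

section calculus

variable {𝒳 𝒴 𝒵 : AlgSt.Cat S}

theorem sm_of_isEquivOver (a : 𝒳 ⥤ᵇ 𝒴) (ha : FibCat.IsEquivOver a) : Sm a :=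
  Groth.Agent.H65.AlgStEquivP.repByAlgSpWith_of_isEquivOver _
    (fun _ => Groth.Agent.H65.AlgStQC4.locP_smooth_id _) a ha

theorem sj_of_isEquivOver (a : 𝒳 ⥤ᵇ 𝒴) (ha : FibCat.IsEquivOver a) : Sj a :=
  Groth.Agent.H65.AlgStEquivP.repByAlgSpWith_of_isEquivOver _
    (fun _ => Groth.Agent.H65.AlgStQC4.isSurjectiveMor_id _) a ha

theorem sm_comp (h𝒳 : FibCat.IsFibGrpd 𝒳.p) (h𝒴 : FibCat.IsFibGrpd 𝒴.p) (f : 𝒳 ⥤ᵇ 𝒴)
    (g : 𝒴 ⥤ᵇ 𝒵) (hf : Sm f) (hg : Sm g) : Sm (BasedFunctor.comp f g) :=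
  repByAlgSpWith_smooth_comp h𝒳 h𝒴 f g hf hg

theorem sj_comp (h𝒳 : FibCat.IsFibGrpd 𝒳.p) (h𝒴 : FibCat.IsFibGrpd 𝒴.p) (f : 𝒳 ⥤ᵇ 𝒴)
    (g : 𝒴 ⥤ᵇ 𝒵) (hf : Sj f) (hg : Sj g) : Sj (BasedFunctor.comp f g) :=
  repByAlgSpWith_surj_comp h𝒳 h𝒴 f g hf hg

theorem isFibGrpd_overCat (U : Over S) : FibCat.IsFibGrpd (FibCat.overCat U).p :=
  (isFibSetoid_overCat U).1

/-- a 2-isomorphism between composition functors of slices is an equality of morphisms -/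
theorem eq_of_ovMap_iso {U V : Over S} {a b : U ⟶ V} (e : ovMap a ≅ ovMap b) : a = b := by
  have hl : (FibCat.overCat V).p.IsHomLift (𝟙 U) (bapp e.hom (ovT U)) :=
    bapp_isHomLift' e.hom (ovT U) rfl
  have h1 : (bapp e.hom (ovT U)).left = 𝟙 U := by
    have := IsHomLift.fac' (FibCat.overCat V).p (𝟙 U) (bapp e.hom (ovT U))
    simp only [Category.id_comp] at this
    exact this
  have h2 := Over.w (bapp e.hom (ovT U))
  have h3 : (bapp e.hom (ovT U)).left ≫ (𝟙 U ≫ b) = 𝟙 U ≫ a := h2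
  rw [h1] at h3
  simpa using h3.symm

end calculus

section refine

variable {𝒳 : AlgSt.Cat S}

/-- a scheme atlas of the 2-fibre product of two charts, the second one representable by
algebraic spaces -/
theorem exists_atlas_fp {𝒴 : AlgSt.Cat S} {U : Over S} (x : FibCat.overCat U ⥤ᵇ 𝒳) (x' : 𝒴 ⥤ᵇ 𝒳)
    (hx' : RepByAlgSp1 x') :
    ∃ (W : Over S) (s : FibCat.overCat W ⥤ᵇ FibCat.fp x x'), Sm s ∧ Sj s := by
  obtain ⟨F, eF, heF⟩ := hx' U x
  obtain ⟨W, p, hpE, hpS⟩ := F.property.atlas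
  let s₀ : FibCat.overCat W ⥤ᵇ ofSp F.obj := ofSection (uliftYonedaEquiv.{u+1} p.hom)
  exact ⟨W, BasedFunctor.comp s₀ eF,
    repByAlgSpWith_comp_equiv _ s₀ eF heF (repByAlgSpWith_atlas F.property p hpE),
    repByAlgSpWith_comp_equiv _ s₀ eF heF (repByAlgSpWith_atlas_surj F.property p hpS)⟩

theorem locP_smooth_of_sm_ovMap {W U : Over S} (g : W ⟶ U) (h : Sm (ovMap g)) :
    AlgSp.LocP @Smooth ((AlgSp.yon S).map g) := by
  have := locP_respectsIso (S := S) @Smooth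
  exact prop_yon_map_of_overMap _ g h

theorem surj_of_sj_ovMap {W U : Over S} (g : W ⟶ U) (h : Sj (ovMap g)) :
    AlgSp.IsSurjectiveMor ((AlgSp.yon S).map g) := by
  have := isSurjectiveMor_respectsIso (S := S)
  exact prop_yon_map_of_overMap _ g h

/-- two charts of a category fibred in groupoids, the second representable by algebraic spaces,
have a common refinement by a scheme -/
theorem exists_refinement (h𝒳 : FibCat.IsFibGrpd 𝒳.p) {U U' : Over S}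
    (x : FibCat.overCat U ⥤ᵇ 𝒳) (x' : FibCat.overCat U' ⥤ᵇ 𝒳) (hx' : RepByAlgSp1 x') :
    ∃ (W : Over S) (g : W ⟶ U) (g' : W ⟶ U'),
      Nonempty (BasedFunctor.comp (ovMap g) x ≅ BasedFunctor.comp (ovMap g') x') ∧
      (Sm x' → Sm (ovMap g)) ∧ (Sm x → Sm (ovMap g')) ∧
      (Sj x' → Sj (ovMap g)) ∧ (Sj x → Sj (ovMap g')) := by
  obtain ⟨W, s, hs₁, hs₂⟩ := exists_atlas_fp x x' hx'
  have hW : FibCat.IsFibGrpd (FibCat.overCat W).p := isFibGrpd_overCat W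
  have hfp : FibCat.IsFibGrpd (FibCat.fp x x').p :=
    isFibGrpd_fp _ _ (isFibGrpd_overCat U) (isFibGrpd_overCat U') h𝒳
  obtain ⟨g, ⟨γ⟩⟩ := exists_iso_ovMap (BasedFunctor.comp s (FibCat.fpFst x x'))
  obtain ⟨g', ⟨γ'⟩⟩ := exists_iso_ovMap (BasedFunctor.comp s (FibCat.fpSnd x x'))
  refine ⟨W, g, g', ⟨?_⟩, ?_, ?_, ?_, ?_⟩
  · exact (bwrIso γ.symm x) ≪≫ bwlIso s (FibCat.fpIso x x') ≪≫ bwrIso γ' x'
  · intro h
    exact repByAlgSpWith_of_iso γ.symm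
      (sm_comp hW hfp s _ hs₁ (repByAlgSpWith_fpFst _ x' x h))
  · intro h
    exact repByAlgSpWith_of_iso γ'.symm
      (sm_comp hW hfp s _ hs₁ (repByAlgSpWith_fpSnd _ x x' h))
  · intro h
    exact repByAlgSpWith_of_iso γ.symm
      (sj_comp hW hfp s _ hs₂ (repByAlgSpWith_fpFst _ x' x h))
  · intro h
    exact repByAlgSpWith_of_iso γ'.symm
      (sj_comp hW hfp s _ hs₂ (repByAlgSpWith_fpSnd _ x x' h))

end refine

end Groth.Agent.H64.LocQ
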