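import Groth.Agent.H64.LocQ.Tools

set_option autoImplicit false
universe u
open CategoryTheory CategoryTheory.Limits AlgebraicGeometry Opposite

/-! Transfer of a smooth-local property between two charts over the same target chart. -/

namespace Groth.Agent.H64.LocQ

open AlgSt Groth.Agent.H32 Groth.Agent.H64 Groth.Agent.H64.Recog Groth.Agent.H64.FpRep
  Groth.Agent.H64.PTh

variable {S : Scheme.{u}} {P : MorphismProperty (AlgSp.Sp S)}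

/-- a property smooth local on the source-and-target is stable under postcomposition with smooth
morphisms -/
theorem postcomp_smooth (hP : AlgSp.IsSmoothLocalST P) {X Y Z : AlgSp.Sp S}
    (hX : AlgSp.IsAlgSpace X) (hY : AlgSp.IsAlgSpace Y) (hZ : AlgSp.IsAlgSpace Z)
    (f : X ⟶ Y) (g : Y ⟶ Z) (hf : P f) (hg : AlgSp.LocP @Smooth g) : P (f ≫ g) := by
  refine (hP.locality hX hZ (f ≫ g)).2 fun x => ?_
  exact ⟨X, Y, 𝟙 X, g, f, x, hX, hY, Groth.Agent.H65.AlgStQC4.locP_smooth_id X, hg, by simp,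
    AlgSp.Points.map_id x, hf⟩

/-- a property smooth local on the source-and-target descends along a smooth surjective
morphism of schemes on the source -/
theorem of_precomp_smooth_surjective (hP : AlgSp.IsSmoothLocalST P) {W U V : Over S}
    (g : W ⟶ U) (h : U ⟶ V) (hg : AlgSp.LocP @Smooth ((AlgSp.yon S).map g))
    (hgs : AlgSp.IsSurjectiveMor ((AlgSp.yon S).map g))
    (hgh : P ((AlgSp.yon S).map (g ≫ h))) : P ((AlgSp.yon S).map h) := by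
  refine (hP.locality (AlgSp.IsAlgSpace.yon_obj U) (AlgSp.IsAlgSpace.yon_obj V) _).2 fun x => ?_
  obtain ⟨v, hv⟩ := hgs x
  refine ⟨_, _, (AlgSp.yon S).map g, 𝟙 _, (AlgSp.yon S).map (g ≫ h), v,
    AlgSp.IsAlgSpace.yon_obj W, AlgSp.IsAlgSpace.yon_obj V, hg,
    Groth.Agent.H65.AlgStQC4.locP_smooth_id _, ?_, hv, hgh⟩
  rw [Category.comp_id, Functor.map_comp]

/-- Two charts `ℓ₁`, `ℓ'` of `𝒬` by schemes, both smooth, the first surjective, and a functor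
`π₂ : 𝒬 ⟶ (Sch/V')`: if the morphism `U₁ ⟶ V'` behind `ℓ₁ ⋙ π₂` has `P`, so has the morphism
`U' ⟶ V'` behind `ℓ' ⋙ π₂`. -/
theorem transfer (hP : AlgSp.IsSmoothLocalST P) {𝒬 : AlgSt.Cat S} (h𝒬 : FibCat.IsFibGrpd 𝒬.p)
    {V' U₁ U' : Over S} (π₂ : 𝒬 ⥤ᵇ FibCat.overCat V')
    (ℓ₁ : FibCat.overCat U₁ ⥤ᵇ 𝒬) (ℓ' : FibCat.overCat U' ⥤ᵇ 𝒬)
    (hℓ₁ : Sm ℓ₁) (hℓ₁s : Sj ℓ₁) (hℓ' : Sm ℓ')
    (k₁ : U₁ ⟶ V') (h' : U' ⟶ V')
    (e₁ : BasedFunctor.comp ℓ₁ π₂ ≅ ovMap k₁) (e' : BasedFunctor.comp ℓ' π₂ ≅ ovMap h')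
    (hk : P ((AlgSp.yon S).map k₁)) : P ((AlgSp.yon S).map h') := by
  obtain ⟨W, g, g', ⟨ι⟩, hg, hg', hgs, -⟩ :=
    exists_refinement h𝒬 ℓ' ℓ₁ (RepByAlgSpWith.repByAlgSp1 hℓ₁)
  -- `g : W ⟶ U'`, `g' : W ⟶ U₁`
  have hg'sm : AlgSp.LocP @Smooth ((AlgSp.yon S).map g') := locP_smooth_of_sm_ovMap g' (hg' hℓ')
  have hgsm : AlgSp.LocP @Smooth ((AlgSp.yon S).map g) := locP_smooth_of_sm_ovMap g (hg hℓ₁)
  have hgsj : AlgSp.IsSurjectiveMor ((AlgSp.yon S).map g) := surj_of_sj_ovMap g (hgs hℓ₁s)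
  have heq : g ≫ h' = g' ≫ k₁ := by
    apply eq_of_ovMap_iso
    exact (ovMapCompIso g h').symm ≪≫ bwlIso (ovMap g) e'.symm ≪≫ bwrIso ι π₂ ≪≫
      bwlIso (ovMap g') e₁ ≪≫ ovMapCompIso g' k₁
  apply of_precomp_smooth_surjective hP g h' hgsm hgsj
  rw [heq, Functor.map_comp]
  exact hP.precomp (AlgSp.IsAlgSpace.yon_obj W) (AlgSp.IsAlgSpace.yon_obj U₁)
    (AlgSp.IsAlgSpace.yon_obj V') _ _ hg'sm hk

end Groth.Agent.H64.LocQ
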